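import Groth.Agent.DualFMLib.FlatHom.Local
import Groth.Agent.Dual3Lib.ExtInjDim
import Groth.Agent.StrictModLib.Fitting
import Groth.Agent.PerfLib.Coherent

/-!
# Flat base change of maps from coherent into bounded below complexes on an affine scheme
-/

set_option autoImplicit false
set_option linter.style.haveILetI false
set_option linter.unusedSectionVars false
set_option backward.isDefEq.respectTransparency false
set_option backward.isDefEq.respectTransparency.types false
set_option maxHeartbeats 1000000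
set_option synthInstance.maxHeartbeats 200000

universe u

open CategoryTheory CategoryTheory.Limits AlgebraicGeometry CategoryTheory.Pretriangulated
open DerivedCategory.TStructure (t)
open scoped TensorProduct

attribute [local instance] HasDerivedCategory.standard

namespace Groth.Agent.DualFMLib

/-- Flat derived inverse image keeps lower bounds. -/
theorem isGE_lpull_flat {X X' : Scheme.{u}} (g : X' ⟶ X) [Flat g] [DCoh.HasLpull g] (K : DCoh.D X)
    (c : ℤ) [K.IsGE c] : ((DCoh.Lpull g).obj K).IsGE c := by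
  rw [DerivedCategory.isGE_iff]
  intro i hi
  obtain ⟨Θ⟩ := nonempty_lpullHIso g i
  exact ((Scheme.Modules.pullback g).map_isZero (DerivedCategory.isZero_of_isGE K c i hi)).of_iso (Θ.app K)

/-- Flat derived inverse image keeps upper bounds. -/
theorem isLE_lpull_flat {X X' : Scheme.{u}} (g : X' ⟶ X) [Flat g] [DCoh.HasLpull g] (K : DCoh.D X)
    (c : ℤ) [K.IsLE c] : ((DCoh.Lpull g).obj K).IsLE c := by
  rw [DerivedCategory.isLE_iff]
  intro i hi
  obtain ⟨Θ⟩ := nonempty_lpullHIso g i
  exact ((Scheme.Modules.pullback g).map_isZero (DerivedCategory.isZero_of_isLE K c i hi)).of_iso (Θ.app K)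

/-- A coherent module on an affine scheme is a quotient of a finite free module. -/
theorem exists_epi_free_affine {X : Scheme.{u}} [IsAffine X] (M : X.Modules) (hM : Coh.IsCoh M) :
    ∃ (k : ℕ) (q : FlatMod.freeMod X k ⟶ M), Epi q := by
  haveI := hM.1
  obtain ⟨I, _, s, hs⟩ := QCohLib.exists_genOn_affine hM.2 (isAffineOpen_top X)
  let e := Equiv.ulift.{u}.trans (Fintype.equivFin I).symm
  have hg : QCohLib.GenTop (fun i : ULift.{u} (Fin (Fintype.card I)) => s (e i)) := fun V x p hp => by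
    obtain ⟨W, hW, hpW, c, hc⟩ := hs.genTop V x p hp
    exact ⟨W, hW, hpW, c ∘ e, hc.trans
      (e.sum_comp fun j => c j • M.presheaf.map (homOfLE (le_top : W ≤ ⊤)).op (s j)).symm⟩
  obtain ⟨q, hq, -⟩ := StrictModLib.exists_epi_free hg
  exact ⟨_, q, hq⟩

section Main

variable {A A' : Type u} [CommRing A] [CommRing A'] [Algebra A A'] [Module.Flat A A']
  {X X' : Scheme.{u}} [X.Over (Spec (CommRingCat.of A))] [X'.Over (Spec (CommRingCat.of A'))]
  {g : X' ⟶ X} (hX : IsPullback g (X' ↘ Spec (CommRingCat.of A')) (X ↘ Spec (CommRingCat.of A))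
    (Spec.map (CommRingCat.ofHom (algebraMap A A'))))
  [IsAffine X] [DCoh.HasLpull g] [(DCoh.Lpull g).CommShift ℤ] [(DCoh.Lpull g).IsTriangulated]

theorem bij_inD_free (k : ℕ) (W : DCoh.D X) (hW : DCoh.IsQCohD W) :
    Bij (semiLin_lpull g hX.w) (DCoh.inD X (FlatMod.freeMod X k)) W := by
  let H := DerivedCategory.singleFunctor X.Modules 0
  let Q := srcP (semiLin_lpull g hX.w) W
  change Q (H.obj _)
  induction k with
  | zero =>
    refine Q.prop_of_isZero (H.map_isZero ?_)
    rw [IsZero.iff_id_eq_zero]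
    exact Sigma.hom_ext _ _ fun i => i.elim0
  | succ k ih =>
    haveI : PreservesBinaryBiproducts H := preservesBinaryBiproducts_of_preservesBiproducts _
    refine Q.prop_of_iso (H.mapIso (PerfLib.freeModSucc' X k) ≪≫ H.mapBiprod _ _).symm ?_
    exact Q.ext_of_isTriangulatedClosed₂ _ (binaryBiproductTriangle_distinguished _ _)
      (bij_perfect hX _ (KoszOrthLib.isPerfect_inD_unit X) W hW) ih

/-- Both sides vanish from degree `≤ 0` into degree `≥ 1`. -/
theorem bijective_eta_of_bounds (P W : DCoh.D X) (p q : ℤ) (hpq : p < q) [P.IsLE p] [W.IsGE q] :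
    Function.Bijective (eta (semiLin_lpull g hX.w) P W) := by
  haveI := flat_of_square hX
  haveI := isLE_lpull_flat g P p
  haveI := isGE_lpull_flat g W q
  haveI : Subsingleton (P ⟶ W) := subsingleton_of_forall_eq 0 fun φ =>
    t.zero_of_isLE_of_isGE φ p q hpq inferInstance inferInstance
  haveI : Subsingleton ((DCoh.Lpull g).obj P ⟶ (DCoh.Lpull g).obj W) := subsingleton_of_forall_eq 0 fun φ =>
    t.zero_of_isLE_of_isGE φ p q hpq inferInstance inferInstance
  haveI : Subsingleton (A' ⊗[A] (P ⟶ W)) := subsingleton_of_forall_eq 0 fun t => by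
    induction t with
    | zero => rfl
    | tmul a φ => rw [Subsingleton.elim φ 0, TensorProduct.tmul_zero]
    | add x y hx hy => rw [hx, hy, add_zero]
  exact ⟨fun _ _ _ => Subsingleton.elim _ _, fun y => ⟨0, Subsingleton.elim _ _⟩⟩

variable [IsNoetherian X]

theorem bij_inD_coh (K : DCoh.D X) (hK : DCoh.IsQCohD K) (c : ℤ) [K.IsGE c] :
    ∀ M : X.Modules, Coh.IsCoh M → Bij (semiLin_lpull g hX.w) (DCoh.inD X M) K := by
  suffices h : ∀ (k : ℕ) (i : ℤ), i < c + k → ∀ M : X.Modules, Coh.IsCoh M →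
      Function.Bijective (eta (semiLin_lpull g hX.w) (DCoh.inD X M) (K⟦i⟧)) from
    fun M hM i => h (i - c).natAbs.succ i (by omega) M hM
  intro k
  induction k with
  | zero =>
    intro i hi M _
    haveI : (K⟦i⟧).IsGE 1 := by
      haveI : (K⟦i⟧).IsGE (c - i) := DerivedCategory.TStructure.t.isGE_shift K c i (c - i) (by omega)
      exact DerivedCategory.TStructure.t.isGE_of_ge _ 1 (c - i) (by omega)
    haveI : (DCoh.inD X M).IsLE 0 := inferInstance
    exact bijective_eta_of_bounds hX _ _ 0 1 (by omega)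
  | succ k ih =>
    intro i hi M hM
    let hG := semiLin_lpull g hX.w
    have hinj : ∀ N : X.Modules, Coh.IsCoh N →
        ∀ (F : Triangle (DCoh.D X)), F ∈ distTriang _ → Function.Bijective (eta hG F.obj₂ (K⟦i⟧)) →
          Function.Bijective (eta hG (F.obj₂⟦(1 : ℤ)⟧) (K⟦i⟧)) →
          Function.Bijective (eta hG (F.obj₁⟦(1 : ℤ)⟧) (K⟦i⟧)) → (F.obj₃ ≅ DCoh.inD X N) →
          Function.Injective (eta hG (DCoh.inD X N) (K⟦i⟧)) := by
      intro N _ F hF h2 h2' h1' e
      have h := AddMonoidHom.injective_of_surjective_of_injective_of_injective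
        (f₁ := ((Linear.leftComp A (K⟦i⟧) F.rotate.rotate.mor₂).lTensor A').toAddMonoidHom)
        (f₂ := ((Linear.leftComp A (K⟦i⟧) F.rotate.mor₂).lTensor A').toAddMonoidHom)
        (f₃ := ((Linear.leftComp A (K⟦i⟧) F.mor₂).lTensor A').toAddMonoidHom)
        (g₁ := Preadditive.leftComp _ ((DCoh.Lpull g).map F.rotate.rotate.mor₂))
        (g₂ := Preadditive.leftComp _ ((DCoh.Lpull g).map F.rotate.mor₂))
        (g₃ := Preadditive.leftComp _ ((DCoh.Lpull g).map F.mor₂))
        (eta hG (F.obj₂⟦(1 : ℤ)⟧) (K⟦i⟧)) (eta hG (F.obj₁⟦(1 : ℤ)⟧) (K⟦i⟧)) (eta hG F.obj₃ (K⟦i⟧))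
        (eta hG F.obj₂ (K⟦i⟧))
        (hc₁ := AddMonoidHom.ext fun t => (eta_left hG F.rotate.rotate.mor₂ t).symm)
        (hc₂ := AddMonoidHom.ext fun t => (eta_left hG F.rotate.mor₂ t).symm)
        (hc₃ := AddMonoidHom.ext fun t => (eta_left hG F.mor₂ t).symm)
        (exact_lTensor_left _ F.rotate.rotate (rot_of_distTriang _ (rot_of_distTriang _ hF)))
        (exact_lTensor_left _ F.rotate (rot_of_distTriang _ hF))
        (exact_map_left _ F.rotate.rotate (rot_of_distTriang _ (rot_of_distTriang _ hF)))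
        h2'.2 h1'.1 h2.1
      intro x y hxy
      have h3 : (Linear.leftComp A (K⟦i⟧) e.hom).lTensor A' x = (Linear.leftComp A (K⟦i⟧) e.hom).lTensor A' y :=
        h ((eta_left hG e.hom x).trans ((congrArg _ hxy).trans (eta_left hG e.hom y).symm))
      have h4 := congrArg ((Linear.leftComp A (K⟦i⟧) e.inv).lTensor A') h3
      have hid : Linear.leftComp A (K⟦i⟧) e.inv ∘ₗ Linear.leftComp A (K⟦i⟧) e.hom = LinearMap.id :=
        LinearMap.ext fun φ => by simp
      simpa [← LinearMap.comp_apply, ← LinearMap.lTensor_comp, hid] using h4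
    have data : ∀ N : X.Modules, Coh.IsCoh N → ∃ (N' : X.Modules) (F : Triangle (DCoh.D X)),
        Coh.IsCoh N' ∧ F ∈ distTriang _ ∧ Nonempty (F.obj₁ ≅ DCoh.inD X N') ∧
        Nonempty (F.obj₃ ≅ DCoh.inD X N) ∧ Function.Bijective (eta hG F.obj₂ (K⟦i⟧)) ∧
        Function.Bijective (eta hG (F.obj₂⟦(1 : ℤ)⟧) (K⟦i⟧)) ∧
        Function.Bijective (eta hG (F.obj₁⟦(1 : ℤ)⟧) (K⟦i⟧)) := by
      intro N hN
      obtain ⟨r, q, hq⟩ := exists_epi_free_affine N hN
      have hS : (ShortComplex.mk (kernel.ι q) q (kernel.condition q)).ShortExact :=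
        { exact := ShortComplex.exact_of_f_is_kernel _ (kernelIsKernel q) }
      haveI := CurvLib.isQCoh_freeMod X r
      have hF : Coh.IsCoh (FlatMod.freeMod X r) := ⟨inferInstance, PerfLib.isFT_freeModule X r⟩
      have hN' : Coh.IsCoh (kernel q) := QCohLib.isCoh_kernel q hF hN.1
      have hfree := bij_inD_free hX r K hK
      exact ⟨kernel q, _, hN', hS.singleTriangle_distinguished, ⟨Iso.refl _⟩, ⟨Iso.refl _⟩,
        hfree i, hfree.pair 1 i,
        bijective_eta_congr hG (Iso.refl _)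
          ((shiftFunctorAdd' (DCoh.D X) (i - 1) 1 i (by omega)).app K).symm
          ((bijective_eta_shift_iff hG (DCoh.inD X (kernel q)) (K⟦i - 1⟧) 1).1
            (ih (i - 1) (by omega) (kernel q) hN'))⟩
    obtain ⟨M', F, hM', hF, ⟨e1⟩, ⟨e3⟩, h2, h2', h1'⟩ := data M hM
    obtain ⟨M'', F', -, hF', -, ⟨e3'⟩, b2, b2', b1'⟩ := data M' hM'
    have hi5 : Function.Injective (eta hG F.obj₁ (K⟦i⟧)) := by
      intro x y hxy
      have h3 : (Linear.leftComp A (K⟦i⟧) e1.inv).lTensor A' x = (Linear.leftComp A (K⟦i⟧) e1.inv).lTensor A' y :=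
        hinj M' hM' F' hF' b2 b2' b1' e3' (by rw [eta_left, eta_left, hxy])
      have h4 := congrArg ((Linear.leftComp A (K⟦i⟧) e1.hom).lTensor A') h3
      have hid : Linear.leftComp A (K⟦i⟧) e1.hom ∘ₗ Linear.leftComp A (K⟦i⟧) e1.inv = LinearMap.id :=
        LinearMap.ext fun φ => by simp
      simpa [← LinearMap.comp_apply, ← LinearMap.lTensor_comp, hid] using h4
    refine bijective_eta_congr hG e3.symm (Iso.refl _) ?_
    exact AddMonoidHom.bijective_of_surjective_of_bijective_of_bijective_of_injective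
      (f₁ := ((Linear.leftComp A (K⟦i⟧) F.rotate.rotate.mor₂).lTensor A').toAddMonoidHom)
      (f₂ := ((Linear.leftComp A (K⟦i⟧) F.rotate.mor₂).lTensor A').toAddMonoidHom)
      (f₃ := ((Linear.leftComp A (K⟦i⟧) F.mor₂).lTensor A').toAddMonoidHom)
      (f₄ := ((Linear.leftComp A (K⟦i⟧) F.mor₁).lTensor A').toAddMonoidHom)
      (g₁ := Preadditive.leftComp _ ((DCoh.Lpull g).map F.rotate.rotate.mor₂))
      (g₂ := Preadditive.leftComp _ ((DCoh.Lpull g).map F.rotate.mor₂))
      (g₃ := Preadditive.leftComp _ ((DCoh.Lpull g).map F.mor₂))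
      (g₄ := Preadditive.leftComp _ ((DCoh.Lpull g).map F.mor₁))
      (eta hG (F.obj₂⟦(1 : ℤ)⟧) (K⟦i⟧)) (eta hG (F.obj₁⟦(1 : ℤ)⟧) (K⟦i⟧)) (eta hG F.obj₃ (K⟦i⟧))
      (eta hG F.obj₂ (K⟦i⟧)) (eta hG F.obj₁ (K⟦i⟧))
      (hc₁ := AddMonoidHom.ext fun t => (eta_left hG F.rotate.rotate.mor₂ t).symm)
      (hc₂ := AddMonoidHom.ext fun t => (eta_left hG F.rotate.mor₂ t).symm)
      (hc₃ := AddMonoidHom.ext fun t => (eta_left hG F.mor₂ t).symm)
      (hc₄ := AddMonoidHom.ext fun t => (eta_left hG F.mor₁ t).symm)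
      (exact_lTensor_left _ F.rotate.rotate (rot_of_distTriang _ (rot_of_distTriang _ hF)))
      (exact_lTensor_left _ F.rotate (rot_of_distTriang _ hF)) (exact_lTensor_left _ F hF)
      (exact_map_left _ F.rotate.rotate (rot_of_distTriang _ (rot_of_distTriang _ hF)))
      (exact_map_left _ F.rotate (rot_of_distTriang _ hF)) (exact_map_left _ F hF)
      h2'.2 h1' h2 hi5

/-- Bounded above coherent into bounded below quasi-coherent. -/
theorem bij_coh_bddBelow (N : DCoh.D X) (hN : DCoh.IsCohD N) (b : ℤ) [N.IsLE b]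
    (K : DCoh.D X) (hK : DCoh.IsQCohD K) (c : ℤ) [K.IsGE c] : Bij (semiLin_lpull g hX.w) N K := by
  intro n
  let hG := semiLin_lpull g hX.w
  haveI : (K⟦n⟧).IsGE (c - n) := DerivedCategory.TStructure.t.isGE_shift K c n (c - n) (by omega)
  let p := min (c - n - 1) b
  have hT := t.triangleLTGE_distinguished p N
  let L := (t.truncLT p).obj N
  let Gp := (t.truncGE p).obj N
  haveI : L.IsLE (p - 1) := t.isLE_truncLT_obj N p (p - 1) (by omega)
  haveI : (L⟦(1 : ℤ)⟧).IsLE (p - 2) := t.isLE_shift L (p - 1) 1 (p - 2) (by omega)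
  haveI : Gp.IsGE p := t.isGE_truncGE_obj N p p le_rfl
  haveI : Gp.IsLE (p + (b - p).toNat) := by
    rw [DerivedCategory.isLE_iff]
    intro j hj
    haveI := DerLib.Ghost.isIso_homologyMap_truncGEπ N p j (by omega)
    exact (DerivedCategory.isZero_of_isLE N b j (by omega)).of_iso
      (asIso ((DerivedCategory.homologyFunctor X.Modules j).map ((t.truncGEπ p).app N))).symm
  have hgood : srcP hG K Gp := by
    refine Dual3Lib.prop_of_bounded (srcP hG K) (fun e h => (srcP hG K).prop_of_iso e h)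
      (fun T hT' h1 h3 => (srcP hG K).ext_of_isTriangulatedClosed₂ T hT' h1 h3)
      (fun hz => (srcP hG K).prop_of_isZero hz) p (b - p).toNat Gp fun q hq _ => ?_
    haveI := DerLib.Ghost.isIso_homologyMap_truncGEπ N p q hq
    refine (srcP hG K).prop_of_iso
      (((DerivedCategory.singleFunctors X.Modules).shiftIso (-q) q 0 (by omega)).app _) ?_
    exact (srcP hG K).le_shift (-q) _ (bij_inD_coh hX K hK c _ (QCohLib.isCoh_of_iso
      (asIso ((DerivedCategory.homologyFunctor X.Modules q).map ((t.truncGEπ p).app N))) (hN q)))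
  exact bijective_eta_src₃ hG _ _ (inv_rot_of_distTriang _ hT) (hgood.pair (-1) n)
    (bijective_eta_of_bounds hX L _ (p - 1) (c - n) (by omega))
    (bijective_eta_congr hG ((shiftFunctorCompIsoId (DCoh.D X) (-1 : ℤ) 1 (by omega)).app Gp) (Iso.refl _)
      (hgood n))
    (bijective_eta_of_bounds hX (L⟦(1 : ℤ)⟧) _ (p - 2) (c - n) (by omega))

end Main

end Groth.Agent.DualFMLib
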