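import Groth.Agent.DualFMLib.FlatHom.Core

/-!
# Composition and change of the squares in the base change of right adjoints
-/

set_option autoImplicit false
set_option linter.style.haveILetI false
set_option linter.unusedSectionVars false
set_option backward.isDefEq.respectTransparency false
set_option backward.isDefEq.respectTransparency.types false
set_option maxHeartbeats 1000000

open CategoryTheory CategoryTheory.Limits

namespace Groth.Agent.DualFMLib

variable {CX CY CX' CY' : Type*} [Category* CX] [Category* CY] [Category* CX'] [Category* CY']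
  {F : CX ⥤ CY} {a : CY ⥤ CX} {F' : CX' ⥤ CY'} {a' : CY' ⥤ CX'} {G : CY ⥤ CY'} {Gr : CY' ⥤ CY}
  {G' : CX ⥤ CX'} {Gr' : CX' ⥤ CX}

/-- The base change map of direct images. -/
noncomputable def betaAbs (e : Gr' ⋙ F ≅ F' ⋙ Gr) (adjg : G ⊣ Gr) (adjg' : G' ⊣ Gr') (T : CX) :
    G.obj (F.obj T) ⟶ F'.obj (G'.obj T) :=
  (adjg.homEquiv _ _).symm (F.map (adjg'.unit.app T) ≫ e.hom.app (G'.obj T))

/-- `ξ`, abstractly. -/
noncomputable def xiAbs (adj : F ⊣ a) (adj' : F' ⊣ a') (e : Gr' ⋙ F ≅ F' ⋙ Gr) (M : CY') :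
    Gr'.obj (a'.obj M) ⟶ a.obj (Gr.obj M) :=
  adj.homEquiv _ _ (e.hom.app _ ≫ Gr.map (adj'.counit.app _))

/-- The base change map of right adjoints, abstractly. -/
noncomputable def bcAbs (adj : F ⊣ a) (adj' : F' ⊣ a') (e : Gr' ⋙ F ≅ F' ⋙ Gr) (adjg : G ⊣ Gr)
    (adjg' : G' ⊣ Gr') (K : CY) [IsIso (xiAbs adj adj' e (G.obj K))] :
    G'.obj (a.obj K) ⟶ a'.obj (G.obj K) :=
  G'.map (a.map (adjg.unit.app K)) ≫ G'.map (inv (xiAbs adj adj' e (G.obj K))) ≫ adjg'.counit.app _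

variable (adj : F ⊣ a) (adj' : F' ⊣ a') (e : Gr' ⋙ F ≅ F' ⋙ Gr) (adjg : G ⊣ Gr) (adjg' : G' ⊣ Gr')

theorem betaAbs_bcAbs (K : CY) [IsIso (xiAbs adj adj' e (G.obj K))] {T : CX} (φ : T ⟶ a.obj K) :
    betaAbs e adjg adjg' T ≫ (adj'.homEquiv _ _).symm (G'.map φ ≫ bcAbs adj adj' e adjg adjg' K) =
      G.map ((adj.homEquiv _ _).symm φ) :=
  bc_identity adj adj' e adjg adjg' K (xiAbs adj adj' e (G.obj K)) rfl _ rfl φ

theorem bcAbs_natural {K K₁ : CY} (η : K ⟶ K₁) [IsIso (xiAbs adj adj' e (G.obj K))]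
    [IsIso (xiAbs adj adj' e (G.obj K₁))] [IsIso (betaAbs e adjg adjg' (a.obj K))] :
    G'.map (a.map η) ≫ bcAbs adj adj' e adjg adjg' K₁ =
      bcAbs adj adj' e adjg adjg' K ≫ a'.map (G.map η) := by
  apply (adj'.homEquiv _ _).symm.injective
  rw [← cancel_epi (betaAbs e adjg adjg' (a.obj K)), betaAbs_bcAbs, Adjunction.homEquiv_naturality_right_symm,
    ← Category.assoc]
  have h := betaAbs_bcAbs adj adj' e adjg adjg' K (𝟙 (a.obj K))
  rw [CategoryTheory.Functor.map_id, Category.id_comp] at h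
  rw [h, ← G.map_comp, Adjunction.homEquiv_counit, Adjunction.homEquiv_counit]
  simp

/-- Base change for a reflection: invertibility from a map that becomes invertible. -/
theorem isIso_bcAbs_of_reflection (hξ : ∀ M, IsIso (xiAbs adj adj' e M))
    (hβ : ∀ T, IsIso (betaAbs e adjg adjg' T)) [IsIso adjg.counit] [IsIso adjg'.counit] (K : CY)
    (h1 : IsIso (G'.map (a.map (adjg.unit.app K)))) :
    haveI := hξ (G.obj K); IsIso (bcAbs adj adj' e adjg adjg' K) := by
  haveI := hξ (G.obj K)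
  haveI := h1
  have hc : IsIso (adjg'.counit.app (a'.obj (G.obj K))) := inferInstance
  change IsIso (_ ≫ _ ≫ _)
  infer_instance

variable {CX'' CY'' : Type*} [Category* CX''] [Category* CY''] {F'' : CX'' ⥤ CY''} {a'' : CY'' ⥤ CX''}
  (adj'' : F'' ⊣ a'') {H : CY' ⥤ CY''} {Hr : CY'' ⥤ CY'} {H' : CX' ⥤ CX''} {Hr' : CX'' ⥤ CX'}
  (e₂ : Hr' ⋙ F' ≅ F'' ⋙ Hr) (adjh : H ⊣ Hr) (adjh' : H' ⊣ Hr')

/-- The pasted identification of direct images. -/
noncomputable def ePaste : (Hr' ⋙ Gr') ⋙ F ≅ F'' ⋙ Hr ⋙ Gr :=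
  Functor.associator _ _ _ ≪≫ Functor.isoWhiskerLeft Hr' e ≪≫ (Functor.associator _ _ _).symm ≪≫
    Functor.isoWhiskerRight e₂ Gr ≪≫ Functor.associator _ _ _

theorem ePaste_app (M : CX'') :
    (ePaste e e₂).hom.app M = e.hom.app (Hr'.obj M) ≫ Gr.map (e₂.hom.app M) := by
  simp [ePaste]

theorem betaAbs_paste (T : CX) :
    betaAbs (ePaste e e₂) (adjg.comp adjh) (adjg'.comp adjh') T =
      H.map (betaAbs e adjg adjg' T) ≫ betaAbs e₂ adjh adjh' (G'.obj T) := by
  apply ((adjg.comp adjh).homEquiv _ _).injective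
  simp only [betaAbs]
  rw [Equiv.apply_symm_apply, ePaste_app]
  simp only [Adjunction.comp_homEquiv, Equiv.trans_apply, Functor.comp_obj]
  rw [Adjunction.homEquiv_naturality_left, Equiv.apply_symm_apply, Adjunction.homEquiv_naturality_right,
    Equiv.apply_symm_apply, Adjunction.comp_unit_app, Functor.map_comp, Functor.map_comp, Category.assoc,
    Category.assoc]
  refine congrArg (F.map (adjg'.unit.app T) ≫ ·) ?_
  have := e.hom.naturality (adjh'.unit.app (G'.obj T))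
  simp only [Functor.comp_map] at this
  exact (reassoc_of% this) _

/-- The composite of two base change maps. -/
theorem betaAbs_bcAbs_paste (K : CY) [IsIso (xiAbs adj adj' e (G.obj K))]
    [IsIso (xiAbs adj' adj'' e₂ (H.obj (G.obj K)))] :
    betaAbs (ePaste e e₂) (adjg.comp adjh) (adjg'.comp adjh') (a.obj K) ≫ (adj''.homEquiv _ _).symm
      (H'.map (bcAbs adj adj' e adjg adjg' K) ≫ bcAbs adj' adj'' e₂ adjh adjh' (G.obj K)) =
      H.map (G.map (adj.counit.app K)) := by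
  rw [betaAbs_paste, Category.assoc]
  refine Eq.trans (congrArg (H.map (betaAbs e adjg adjg' (a.obj K)) ≫ ·)
    (betaAbs_bcAbs adj' adj'' e₂ adjh adjh' (G.obj K) (bcAbs adj adj' e adjg adjg' K))) ?_
  rw [← H.map_comp]
  refine congrArg H.map ?_
  have h := betaAbs_bcAbs adj adj' e adjg adjg' K (𝟙 (a.obj K))
  rw [CategoryTheory.Functor.map_id, Category.id_comp] at h
  rw [h, Adjunction.homEquiv_counit, CategoryTheory.Functor.map_id, Category.id_comp]

section Change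

variable {L L₂ : CY ⥤ CY''} {R R₂ : CY'' ⥤ CY} (A : L ⊣ R) (A₂ : L₂ ⊣ R₂) (ρ : R₂ ≅ R)
  {L' L₂' : CX ⥤ CX''} {R' R₂' : CX'' ⥤ CX} (B : L' ⊣ R') (B₂ : L₂' ⊣ R₂') (ρ' : R₂' ≅ R')
  (e₁₂ : R' ⋙ F ≅ F'' ⋙ R) (e₃₄ : R₂' ⋙ F ≅ F'' ⋙ R₂)

/-- Two presentations of one square give isomorphic base change maps. -/
theorem isIso_iff_of_change
    (hρ : ∀ M, F.map (ρ'.hom.app M) ≫ e₁₂.hom.app M = e₃₄.hom.app M ≫ ρ.hom.app (F''.obj M))
    (K : CY) [IsIso (betaAbs e₁₂ A B (a.obj K))]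
    (z : L'.obj (a.obj K) ⟶ a''.obj (L.obj K))
    (hz : betaAbs e₁₂ A B (a.obj K) ≫ (adj''.homEquiv _ _).symm z = L.map (adj.counit.app K))
    (z₂ : L₂'.obj (a.obj K) ⟶ a''.obj (L₂.obj K))
    (hz₂ : betaAbs e₃₄ A₂ B₂ (a.obj K) ≫ (adj''.homEquiv _ _).symm z₂ = L₂.map (adj.counit.app K)) :
    IsIso z ↔ IsIso z₂ := by
  let c := Adjunction.leftAdjointUniq A (A₂.ofNatIsoRight ρ)
  let c' := Adjunction.leftAdjointUniq B (B₂.ofNatIsoRight ρ')
  let T := a.obj K
  have hβ : betaAbs e₁₂ A B T ≫ F''.map (c'.hom.app T) = c.hom.app (F.obj T) ≫ betaAbs e₃₄ A₂ B₂ T := by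
    apply (A.homEquiv _ _).injective
    rw [Adjunction.homEquiv_naturality_right]
    simp only [betaAbs, Equiv.apply_symm_apply]
    have hc : ∀ {Y : CY''} (x : L₂.obj (F.obj T) ⟶ Y),
        A.homEquiv _ _ (c.hom.app (F.obj T) ≫ x) = A₂.homEquiv _ _ x ≫ ρ.hom.app Y := fun {Y} x => by
      rw [Adjunction.homEquiv_naturality_right, Adjunction.homEquiv_leftAdjointUniq_hom_app,
        Adjunction.homEquiv_unit]
      simp [Adjunction.ofNatIsoRight]
    have hu : B.unit.app T ≫ R'.map (c'.hom.app T) = B₂.unit.app T ≫ ρ'.hom.app _ := by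
      rw [Adjunction.unit_leftAdjointUniq_hom_app]
      simp [Adjunction.ofNatIsoRight]
    rw [hc, Equiv.apply_symm_apply, Category.assoc, Category.assoc]
    have h2 := e₁₂.hom.naturality (c'.hom.app T)
    simp only [Functor.comp_map] at h2
    rw [← h2, ← F.map_comp_assoc, hu, Functor.map_comp, Category.assoc]
    exact congrArg (_ ≫ ·) (hρ _)
  have key : z ≫ a''.map (c.hom.app K) = c'.hom.app T ≫ z₂ := by
    apply (adj''.homEquiv _ _).symm.injective
    rw [← cancel_epi (betaAbs e₁₂ A B (a.obj K)), Adjunction.homEquiv_naturality_right_symm, ← Category.assoc, hz,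
      Adjunction.homEquiv_naturality_left_symm, ← Category.assoc, hβ, Category.assoc, hz₂]
    exact c.hom.naturality (adj.counit.app K)
  constructor
  · intro h
    have h1 : IsIso (c'.hom.app T ≫ z₂) := key ▸ inferInstance
    exact IsIso.of_isIso_comp_left (c'.hom.app T) z₂
  · intro h
    have h1 : IsIso (z ≫ a''.map (c.hom.app K)) := key ▸ inferInstance
    exact IsIso.of_isIso_comp_right z (a''.map (c.hom.app K))

end Change

end Groth.Agent.DualFMLib
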