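import Mathlib

/-!
# Base change of Hom modules along a semilinear functor
-/

set_option autoImplicit false
set_option linter.unusedSectionVars false

universe w v v' v₀ v₀' u u' u₀ u₀'

open CategoryTheory CategoryTheory.Limits CategoryTheory.Pretriangulated
open scoped TensorProduct ZeroObject

namespace Groth.Agent.DualFMLib

variable {A A' : Type w} [CommRing A] [CommRing A'] [Algebra A A']

section

variable {C : Type u} [Category.{v} C] [Preadditive C] [CategoryTheory.Linear A C]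
  {C' : Type u'} [Category.{v'} C'] [Preadditive C'] [CategoryTheory.Linear A' C']

/-- A functor is semilinear along `A → A'`. -/
structure SemiLin (A A' : Type w) [CommRing A] [CommRing A'] [Algebra A A']
    {C : Type u} [Category.{v} C] [Preadditive C] [CategoryTheory.Linear A C]
    {C' : Type u'} [Category.{v'} C'] [Preadditive C'] [CategoryTheory.Linear A' C']
    (G : C ⥤ C') : Prop where
  map_smul_id : ∀ (a : A) (X : C), G.map (a • 𝟙 X) = algebraMap A A' a • 𝟙 (G.obj X)

variable {G : C ⥤ C'}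

theorem SemiLin.map_smul (hG : SemiLin A A' G) (a : A) {X Y : C} (φ : X ⟶ Y) :
    G.map (a • φ) = algebraMap A A' a • G.map φ := by
  rw [show a • φ = (a • 𝟙 X) ≫ φ by rw [Linear.smul_comp, Category.id_comp], G.map_comp,
    hG.map_smul_id, Linear.smul_comp, Category.id_comp]

variable [G.Additive] (hG : SemiLin A A' G)

/-- `A' ⊗ Hom(P, W) → Hom(G P, G W)`. -/
noncomputable def eta (P W : C) : A' ⊗[A] (P ⟶ W) →+ (G.obj P ⟶ G.obj W) :=
  TensorProduct.liftAddHom
    (AddMonoidHom.mk' (fun a' : A' => AddMonoidHom.mk' (fun φ : P ⟶ W => a' • G.map φ)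
      fun φ ψ => by rw [G.map_add, smul_add])
      fun a b => AddMonoidHom.ext fun φ => add_smul a b _)
    fun r a' φ => by
      change (r • a') • G.map φ = a' • G.map (r • φ)
      rw [hG.map_smul, smul_smul, Algebra.smul_def, mul_comm]

@[simp]
theorem eta_tmul (P W : C) (a' : A') (φ : P ⟶ W) : eta hG P W (a' ⊗ₜ φ) = a' • G.map φ := rfl

theorem eta_right {P W W' : C} (u : W ⟶ W') (t : A' ⊗[A] (P ⟶ W)) :
    eta hG P W' ((Linear.rightComp A P u).lTensor A' t) = eta hG P W t ≫ G.map u := by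
  induction t with
  | zero => simp
  | tmul a' φ => simp [Linear.smul_comp]
  | add x y hx hy => simp [hx, hy, Preadditive.add_comp]

theorem eta_left {P P' W : C} (u : P' ⟶ P) (t : A' ⊗[A] (P ⟶ W)) :
    eta hG P' W ((Linear.leftComp A W u).lTensor A' t) = G.map u ≫ eta hG P W t := by
  induction t with
  | zero => simp
  | tmul a' φ => simp [Linear.comp_smul]
  | add x y hx hy => simp [hx, hy, Preadditive.comp_add]

theorem bijective_eta_of_isZero_tgt (P : C) {W : C} (hW : IsZero W) :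
    Function.Bijective (eta hG P W) := by
  haveI : Subsingleton (P ⟶ W) := ⟨hW.eq_of_tgt⟩
  haveI : Subsingleton (G.obj P ⟶ G.obj W) := ⟨(G.map_isZero hW).eq_of_tgt⟩
  haveI : Subsingleton (A' ⊗[A] (P ⟶ W)) := subsingleton_of_forall_eq 0 fun t => by
    induction t with
    | zero => rfl
    | tmul a φ => rw [Subsingleton.elim φ 0, TensorProduct.tmul_zero]
    | add x y hx hy => rw [hx, hy, add_zero]
  exact ⟨fun _ _ _ => Subsingleton.elim _ _, fun y => ⟨0, Subsingleton.elim _ _⟩⟩

theorem bijective_eta_of_isZero_src {P : C} (hP : IsZero P) (W : C) :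
    Function.Bijective (eta hG P W) := by
  haveI : Subsingleton (P ⟶ W) := ⟨hP.eq_of_src⟩
  haveI : Subsingleton (G.obj P ⟶ G.obj W) := ⟨(G.map_isZero hP).eq_of_src⟩
  haveI : Subsingleton (A' ⊗[A] (P ⟶ W)) := subsingleton_of_forall_eq 0 fun t => by
    induction t with
    | zero => rfl
    | tmul a φ => rw [Subsingleton.elim φ 0, TensorProduct.tmul_zero]
    | add x y hx hy => rw [hx, hy, add_zero]
  exact ⟨fun _ _ _ => Subsingleton.elim _ _, fun y => ⟨0, Subsingleton.elim _ _⟩⟩

/-- Retracts in the source. -/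
theorem bijective_eta_of_retract {P P' : C} (r : Retract P' P) (W : C)
    (h : Function.Bijective (eta hG P W)) : Function.Bijective (eta hG P' W) := by
  refine ⟨fun x y hxy => ?_, fun ψ => ?_⟩
  · have h1 : (Linear.leftComp A W r.r).lTensor A' x = (Linear.leftComp A W r.r).lTensor A' y :=
      h.1 (by rw [eta_left, eta_left, hxy])
    have h2 := congrArg ((Linear.leftComp A W r.i).lTensor A') h1
    have hid : Linear.leftComp A W r.i ∘ₗ Linear.leftComp A W r.r = LinearMap.id :=
      LinearMap.ext fun φ => by simp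
    simpa [← LinearMap.comp_apply, ← LinearMap.lTensor_comp, hid] using h2
  · obtain ⟨t, ht⟩ := h.2 (G.map r.r ≫ ψ)
    exact ⟨(Linear.leftComp A W r.i).lTensor A' t,
      by rw [eta_left, ht, ← Category.assoc, ← G.map_comp, r.retract, G.map_id, Category.id_comp]⟩

theorem bijective_eta_congr {P P' W W' : C} (e : P' ≅ P) (e' : W ≅ W')
    (h : Function.Bijective (eta hG P W)) : Function.Bijective (eta hG P' W') := by
  have h1 := bijective_eta_of_retract hG (Retract.ofIso e) W h
  refine ⟨fun x y hxy => ?_, fun ψ => ?_⟩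
  · have h2 : (Linear.rightComp A P' e'.inv).lTensor A' x = (Linear.rightComp A P' e'.inv).lTensor A' y :=
      h1.1 (by rw [eta_right, eta_right, hxy])
    have h3 := congrArg ((Linear.rightComp A P' e'.hom).lTensor A') h2
    have hid : Linear.rightComp A P' e'.hom ∘ₗ Linear.rightComp A P' e'.inv = LinearMap.id :=
      LinearMap.ext fun φ => by simp
    simpa [← LinearMap.comp_apply, ← LinearMap.lTensor_comp, hid] using h3
  · obtain ⟨t, ht⟩ := h1.2 (ψ ≫ G.map e'.inv)
    exact ⟨(Linear.rightComp A P' e'.hom).lTensor A' t, by simp [eta_right, ht, ← G.map_comp]⟩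

variable {C₀ : Type u₀} [Category.{v₀} C₀] [Preadditive C₀] [CategoryTheory.Linear A C₀]
  {C₀' : Type u₀'} [Category.{v₀'} C₀'] [Preadditive C₀'] [CategoryTheory.Linear A' C₀']
  {G₀ : C₀ ⥤ C₀'} [G₀.Additive] (hG₀ : SemiLin A A' G₀)

/-- Transporting along compatible linear identifications. -/
theorem bijective_eta_transfer {P W : C} {P₀ W₀ : C₀} (e : (P ⟶ W) →ₗ[A] (P₀ ⟶ W₀))
    (he : Function.Bijective e) (e' : (G.obj P ⟶ G.obj W) →ₗ[A'] (G₀.obj P₀ ⟶ G₀.obj W₀))
    (he' : Function.Bijective e') (hc : ∀ φ, e' (G.map φ) = G₀.map (e φ)) :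
    Function.Bijective (eta hG P W) ↔ Function.Bijective (eta hG₀ P₀ W₀) := by
  let E := LinearEquiv.ofBijective e he
  have h : ∀ t, e' (eta hG P W t) = eta hG₀ P₀ W₀ (LinearEquiv.lTensor A' E t) := fun t => by
    induction t with
    | zero => simp
    | tmul a' φ => simp [E, map_smul, hc]
    | add x y hx hy => simp only [map_add, hx, hy]
  have h' : e' ∘ eta hG P W = eta hG₀ P₀ W₀ ∘ LinearEquiv.lTensor A' E := funext h
  rw [← Function.Bijective.of_comp_iff' he', h',
    Function.Bijective.of_comp_iff _ (LinearEquiv.lTensor A' E).bijective]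

/-- Transporting along an adjunction. -/
theorem bijective_eta_adj {L : C ⥤ C₀} {R : C₀ ⥤ C} (adj : L ⊣ R) [L.Additive] (hL : SemiLin A A L)
    {L' : C' ⥤ C₀'} {R' : C₀' ⥤ C'} (adj' : L' ⊣ R') [L'.Additive] (hL' : SemiLin A' A' L')
    (c : G ⋙ L' ≅ L ⋙ G₀) (P : C) (W : C₀)
    (hbc : IsIso (adj'.homEquiv _ _ (c.hom.app (R.obj W) ≫ G₀.map (adj.counit.app W)))) :
    Function.Bijective (eta hG P (R.obj W)) ↔ Function.Bijective (eta hG₀ (L.obj P) W) := by
  haveI := hbc
  let bc := adj'.homEquiv _ _ (c.hom.app (R.obj W) ≫ G₀.map (adj.counit.app W))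
  let e : (P ⟶ R.obj W) →ₗ[A] (L.obj P ⟶ W) :=
    { toFun := fun φ => (adj.homEquiv P W).symm φ
      map_add' := fun φ ψ => by simp [Adjunction.homEquiv_counit]
      map_smul' := fun a φ => by
        simp [Adjunction.homEquiv_counit, hL.map_smul, Linear.smul_comp] }
  let e' : (G.obj P ⟶ G.obj (R.obj W)) →ₗ[A'] (G₀.obj (L.obj P) ⟶ G₀.obj W) :=
    { toFun := fun ψ => c.inv.app P ≫ (adj'.homEquiv _ _).symm (ψ ≫ bc)
      map_add' := fun φ ψ => by simp [Adjunction.homEquiv_counit, Preadditive.add_comp]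
      map_smul' := fun a φ => by
        simp [Adjunction.homEquiv_counit, hL'.map_smul, Linear.smul_comp, Linear.comp_smul] }
  refine bijective_eta_transfer hG hG₀ e (adj.homEquiv P W).symm.bijective e' ?_ fun φ => ?_
  · exact (((asIso bc).homToEquiv.trans (adj'.homEquiv _ _).symm).trans
      ((c.app P).homFromEquiv)).bijective
  · change c.inv.app P ≫ (adj'.homEquiv _ _).symm (G.map φ ≫ bc) =
      G₀.map ((adj.homEquiv P W).symm φ)
    simp only [bc, adj'.homEquiv_naturality_left_symm, Equiv.symm_apply_apply,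
      Adjunction.homEquiv_counit, G₀.map_comp]
    have := c.hom.naturality φ
    simp only [Functor.comp_map] at this
    rw [reassoc_of% this, Iso.inv_hom_id_app_assoc]

end

section Triangulated

variable {C : Type u} [Category.{v} C] [Preadditive C] [CategoryTheory.Linear A C] [HasZeroObject C]
  [HasShift C ℤ] [∀ n : ℤ, (shiftFunctor C n).Additive] [Pretriangulated C]
  [∀ n : ℤ, (shiftFunctor C n).Linear A]
  {C' : Type u'} [Category.{v'} C'] [Preadditive C'] [CategoryTheory.Linear A' C'] [HasZeroObject C']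
  [HasShift C' ℤ] [∀ n : ℤ, (shiftFunctor C' n).Additive] [Pretriangulated C']
  [∀ n : ℤ, (shiftFunctor C' n).Linear A']
  {G : C ⥤ C'} [G.Additive] [G.CommShift ℤ] [G.IsTriangulated] (hG : SemiLin A A' G)

theorem exact_lTensor_right [Module.Flat A A'] (P : C) (T : Triangle C) (hT : T ∈ distTriang C) :
    Function.Exact ((Linear.rightComp A P T.mor₁).lTensor A')
      ((Linear.rightComp A P T.mor₂).lTensor A') := by
  refine Module.Flat.lTensor_exact A' fun φ => ⟨fun h => ?_, ?_⟩
  · obtain ⟨ψ, hψ⟩ := Triangle.coyoneda_exact₂ _ hT φ h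
    exact ⟨ψ, hψ.symm⟩
  · rintro ⟨ψ, rfl⟩
    change (ψ ≫ T.mor₁) ≫ T.mor₂ = 0
    rw [Category.assoc, comp_distTriang_mor_zero₁₂ _ hT, comp_zero]

theorem exact_lTensor_left [Module.Flat A A'] (W : C) (T : Triangle C) (hT : T ∈ distTriang C) :
    Function.Exact ((Linear.leftComp A W T.mor₂).lTensor A')
      ((Linear.leftComp A W T.mor₁).lTensor A') := by
  refine Module.Flat.lTensor_exact A' fun φ => ⟨fun h => ?_, ?_⟩
  · obtain ⟨ψ, hψ⟩ := Triangle.yoneda_exact₂ _ hT φ h
    exact ⟨ψ, hψ.symm⟩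
  · rintro ⟨ψ, rfl⟩
    change T.mor₁ ≫ T.mor₂ ≫ ψ = 0
    rw [← Category.assoc, comp_distTriang_mor_zero₁₂ _ hT, zero_comp]

omit [CategoryTheory.Linear A C] [∀ n : ℤ, (shiftFunctor C n).Linear A] in
theorem exact_map_right (P : C') (T : Triangle C) (hT : T ∈ distTriang C) :
    Function.Exact (Preadditive.rightComp P (G.map T.mor₁))
      (Preadditive.rightComp P (G.map T.mor₂)) := fun φ => by
  constructor
  · intro h
    obtain ⟨ψ, hψ⟩ := Triangle.coyoneda_exact₂ _ (G.map_distinguished T hT) φ h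
    exact ⟨ψ, hψ.symm⟩
  · rintro ⟨ψ, rfl⟩
    change (ψ ≫ G.map T.mor₁) ≫ G.map T.mor₂ = 0
    rw [Category.assoc, ← G.map_comp, comp_distTriang_mor_zero₁₂ _ hT, G.map_zero, comp_zero]

omit [CategoryTheory.Linear A C] [∀ n : ℤ, (shiftFunctor C n).Linear A] in
theorem exact_map_left (W : C') (T : Triangle C) (hT : T ∈ distTriang C) :
    Function.Exact (Preadditive.leftComp W (G.map T.mor₂))
      (Preadditive.leftComp W (G.map T.mor₁)) := fun φ => by
  constructor
  · intro h
    obtain ⟨ψ, hψ⟩ := Triangle.yoneda_exact₂ _ (G.map_distinguished T hT) φ h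
    exact ⟨ψ, hψ.symm⟩
  · rintro ⟨ψ, rfl⟩
    change G.map T.mor₁ ≫ G.map T.mor₂ ≫ ψ = 0
    rw [← Category.assoc, ← G.map_comp, comp_distTriang_mor_zero₁₂ _ hT, G.map_zero, zero_comp]

variable [Module.Flat A A']

theorem bijective_eta_tgt₃ (P : C) (T : Triangle C) (hT : T ∈ distTriang C)
    (h1 : Function.Bijective (eta hG P T.obj₁)) (h2 : Function.Bijective (eta hG P T.obj₂))
    (h4 : Function.Bijective (eta hG P (T.obj₁⟦(1 : ℤ)⟧)))
    (h5 : Function.Bijective (eta hG P (T.obj₂⟦(1 : ℤ)⟧))) :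
    Function.Bijective (eta hG P T.obj₃) :=
  AddMonoidHom.bijective_of_surjective_of_bijective_of_bijective_of_injective
    (f₁ := ((Linear.rightComp A P T.mor₁).lTensor A').toAddMonoidHom)
    (f₂ := ((Linear.rightComp A P T.mor₂).lTensor A').toAddMonoidHom)
    (f₃ := ((Linear.rightComp A P T.rotate.mor₂).lTensor A').toAddMonoidHom)
    (f₄ := ((Linear.rightComp A P T.rotate.rotate.mor₂).lTensor A').toAddMonoidHom)
    (g₁ := Preadditive.rightComp (G.obj P) (G.map T.mor₁))
    (g₂ := Preadditive.rightComp (G.obj P) (G.map T.mor₂))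
    (g₃ := Preadditive.rightComp (G.obj P) (G.map T.rotate.mor₂))
    (g₄ := Preadditive.rightComp (G.obj P) (G.map T.rotate.rotate.mor₂))
    (eta hG P T.obj₁) (eta hG P T.obj₂) (eta hG P T.obj₃) (eta hG P (T.obj₁⟦(1 : ℤ)⟧))
    (eta hG P (T.obj₂⟦(1 : ℤ)⟧))
    (hc₁ := AddMonoidHom.ext fun t => (eta_right hG T.mor₁ t).symm)
    (hc₂ := AddMonoidHom.ext fun t => (eta_right hG T.mor₂ t).symm)
    (hc₃ := AddMonoidHom.ext fun t => (eta_right hG T.rotate.mor₂ t).symm)
    (hc₄ := AddMonoidHom.ext fun t => (eta_right hG T.rotate.rotate.mor₂ t).symm)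
    (exact_lTensor_right P T hT) (exact_lTensor_right P T.rotate (rot_of_distTriang _ hT))
    (exact_lTensor_right P T.rotate.rotate (rot_of_distTriang _ (rot_of_distTriang _ hT)))
    (exact_map_right _ T hT) (exact_map_right _ T.rotate (rot_of_distTriang _ hT))
    (exact_map_right _ T.rotate.rotate (rot_of_distTriang _ (rot_of_distTriang _ hT)))
    h1.2 h2 h4 h5.1

theorem bijective_eta_src₃ (W : C) (T : Triangle C) (hT : T ∈ distTriang C)
    (h1 : Function.Bijective (eta hG T.obj₁ W)) (h2 : Function.Bijective (eta hG T.obj₂ W))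
    (h4 : Function.Bijective (eta hG (T.obj₁⟦(1 : ℤ)⟧) W))
    (h5 : Function.Bijective (eta hG (T.obj₂⟦(1 : ℤ)⟧) W)) :
    Function.Bijective (eta hG T.obj₃ W) :=
  AddMonoidHom.bijective_of_surjective_of_bijective_of_bijective_of_injective
    (f₁ := ((Linear.leftComp A W T.rotate.rotate.mor₂).lTensor A').toAddMonoidHom)
    (f₂ := ((Linear.leftComp A W T.rotate.mor₂).lTensor A').toAddMonoidHom)
    (f₃ := ((Linear.leftComp A W T.mor₂).lTensor A').toAddMonoidHom)
    (f₄ := ((Linear.leftComp A W T.mor₁).lTensor A').toAddMonoidHom)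
    (g₁ := Preadditive.leftComp (G.obj W) (G.map T.rotate.rotate.mor₂))
    (g₂ := Preadditive.leftComp (G.obj W) (G.map T.rotate.mor₂))
    (g₃ := Preadditive.leftComp (G.obj W) (G.map T.mor₂))
    (g₄ := Preadditive.leftComp (G.obj W) (G.map T.mor₁))
    (eta hG (T.obj₂⟦(1 : ℤ)⟧) W) (eta hG (T.obj₁⟦(1 : ℤ)⟧) W) (eta hG T.obj₃ W) (eta hG T.obj₂ W)
    (eta hG T.obj₁ W)
    (hc₁ := AddMonoidHom.ext fun t => (eta_left hG T.rotate.rotate.mor₂ t).symm)
    (hc₂ := AddMonoidHom.ext fun t => (eta_left hG T.rotate.mor₂ t).symm)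
    (hc₃ := AddMonoidHom.ext fun t => (eta_left hG T.mor₂ t).symm)
    (hc₄ := AddMonoidHom.ext fun t => (eta_left hG T.mor₁ t).symm)
    (exact_lTensor_left W T.rotate.rotate (rot_of_distTriang _ (rot_of_distTriang _ hT)))
    (exact_lTensor_left W T.rotate (rot_of_distTriang _ hT)) (exact_lTensor_left W T hT)
    (exact_map_left _ T.rotate.rotate (rot_of_distTriang _ (rot_of_distTriang _ hT)))
    (exact_map_left _ T.rotate (rot_of_distTriang _ hT)) (exact_map_left _ T hT)
    h5.2 h4 h2 h1.1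

omit [Module.Flat A A'] [Pretriangulated C] [Pretriangulated C'] [HasZeroObject C] [HasZeroObject C']
  [G.IsTriangulated] in
theorem bijective_eta_shift_iff (P W : C) (k : ℤ) :
    Function.Bijective (eta hG P W) ↔ Function.Bijective (eta hG (P⟦k⟧) (W⟦k⟧)) := by
  let e : (P ⟶ W) →ₗ[A] (P⟦k⟧ ⟶ W⟦k⟧) := (shiftFunctor C k).mapLinearMap A
  let cs := G.commShiftIso k
  let e' : (G.obj P ⟶ G.obj W) →ₗ[A'] (G.obj (P⟦k⟧) ⟶ G.obj (W⟦k⟧)) :=
    { toFun := fun ψ => cs.hom.app P ≫ ψ⟦k⟧' ≫ cs.inv.app W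
      map_add' := fun φ ψ => by simp
      map_smul' := fun a φ => by simp [Functor.map_smul, Linear.smul_comp, Linear.comp_smul] }
  refine bijective_eta_transfer hG hG e ⟨(shiftFunctor C k).map_injective,
    (shiftFunctor C k).map_surjective⟩ e' ?_ fun φ => ?_
  · refine ⟨fun x y h => (shiftFunctor C' k).map_injective ?_, fun z => ?_⟩
    · exact (cancel_mono (cs.inv.app W)).1 ((cancel_epi (cs.hom.app P)).1 h)
    · obtain ⟨ψ, hψ⟩ := (shiftFunctor C' k).map_surjective (cs.inv.app P ≫ z ≫ cs.hom.app W)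
      exact ⟨ψ, by change cs.hom.app P ≫ ψ⟦k⟧' ≫ cs.inv.app W = z; rw [hψ]; simp⟩
  · change cs.hom.app P ≫ (G.map φ)⟦k⟧' ≫ cs.inv.app W = G.map (φ⟦k⟧')
    have := cs.hom.naturality φ
    simp only [Functor.comp_map] at this
    rw [← reassoc_of% this, Iso.hom_inv_id_app]
    exact Category.comp_id _

/-- Bijectivity for all shifts. -/
def Bij (P W : C) : Prop := ∀ n : ℤ, Function.Bijective (eta hG P (W⟦n⟧))

variable {hG}

omit [Module.Flat A A'] [Pretriangulated C] [Pretriangulated C'] [HasZeroObject C] [HasZeroObject C']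
  [G.IsTriangulated] in
theorem Bij.pair {P W : C} (h : Bij hG P W) (m n : ℤ) :
    Function.Bijective (eta hG (P⟦m⟧) (W⟦n⟧)) :=
  bijective_eta_congr hG (Iso.refl _)
    ((shiftFunctorAdd' C (n - m) m n (by omega)).app W).symm
    ((bijective_eta_shift_iff hG P (W⟦n - m⟧) m).1 (h (n - m)))

omit [Module.Flat A A'] [Pretriangulated C] [Pretriangulated C'] [HasZeroObject C] [HasZeroObject C']
  [G.IsTriangulated] in
theorem Bij.eta_bijective {P W : C} (h : Bij hG P W) : Function.Bijective (eta hG P W) :=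
  bijective_eta_congr hG (Iso.refl _) ((shiftFunctorZero C ℤ).app W) (h 0)

omit [Module.Flat A A'] [Pretriangulated C] [Pretriangulated C'] [HasZeroObject C] [HasZeroObject C']
  [G.IsTriangulated] in
theorem Bij.congr {P P' W W' : C} (e : P' ≅ P) (e' : W ≅ W') (h : Bij hG P W) : Bij hG P' W' :=
  fun n => bijective_eta_congr hG e ((shiftFunctor C n).mapIso e') (h n)

variable (hG)

/-- The targets good for `P`. -/
def tgtP (P : C) : ObjectProperty C := fun W => Bij hG P W

/-- The sources good for `W`. -/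
def srcP (W : C) : ObjectProperty C := fun P => Bij hG P W

instance (P : C) : (tgtP hG P).IsClosedUnderIsomorphisms :=
  ⟨fun e h => Bij.congr (Iso.refl _) e h⟩

instance (W : C) : (srcP hG W).IsClosedUnderIsomorphisms :=
  ⟨fun e h => Bij.congr e.symm (Iso.refl _) h⟩

omit [Module.Flat A A'] [Pretriangulated C] [Pretriangulated C'] [HasZeroObject C] [HasZeroObject C']
  [G.IsTriangulated] [G.CommShift ℤ] in
theorem prop_retract {P P' : C} (r : Retract P' P) (W : C) (h : Bij hG P W) : Bij hG P' W :=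
  fun n => bijective_eta_of_retract hG r _ (h n)

instance (W : C) : (srcP hG W).IsStableUnderRetracts := ⟨fun r h => prop_retract hG r W h⟩

theorem bij_tgt₃ (P : C) (T : Triangle C) (hT : T ∈ distTriang C)
    (h1 : Bij hG P T.obj₁) (h2 : Bij hG P T.obj₂) : Bij hG P T.obj₃ := fun n =>
  bijective_eta_tgt₃ hG P _ (Triangle.shift_distinguished T hT n) (h1 n) (h2 n)
    (bijective_eta_congr hG (Iso.refl _) ((shiftFunctorAdd C n 1).app T.obj₁) (h1 (n + 1)))
    (bijective_eta_congr hG (Iso.refl _) ((shiftFunctorAdd C n 1).app T.obj₂) (h2 (n + 1)))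

theorem bij_src₃ (W : C) (T : Triangle C) (hT : T ∈ distTriang C)
    (h1 : Bij hG T.obj₁ W) (h2 : Bij hG T.obj₂ W) : Bij hG T.obj₃ W := fun n =>
  bijective_eta_src₃ hG _ T hT (h1 n) (h2 n) (h1.pair 1 n) (h2.pair 1 n)

instance (P : C) : (tgtP hG P).IsTriangulated where
  exists_zero := ⟨0, isZero_zero C, fun n =>
    bijective_eta_of_isZero_tgt hG P ((shiftFunctor C n).map_isZero (isZero_zero C))⟩
  isStableUnderShiftBy k := ⟨fun W h n => bijective_eta_congr hG (Iso.refl _)
    ((shiftFunctorAdd' C k n (k + n) rfl).app W) (h (k + n))⟩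
  ext₂' T hT h1 h3 := ObjectProperty.le_isoClosure _ _
    (bij_tgt₃ hG P T.invRotate (inv_rot_of_distTriang _ hT)
      (fun n => bijective_eta_congr hG (Iso.refl _)
        ((shiftFunctorAdd' C (-1) n (-1 + n) rfl).app T.obj₃) (h3 (-1 + n))) h1)

instance (W : C) : (srcP hG W).IsTriangulated where
  exists_zero := ⟨0, isZero_zero C, fun n => bijective_eta_of_isZero_src hG (isZero_zero C) _⟩
  isStableUnderShiftBy k := ⟨fun P h n => h.pair k n⟩
  ext₂' T hT h1 h3 := ObjectProperty.le_isoClosure _ _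
    (bij_src₃ hG W T.invRotate (inv_rot_of_distTriang _ hT) (fun n => h3.pair (-1) n) h1)

end Triangulated

end Groth.Agent.DualFMLib
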