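import Groth.Agent.DualFMLib.FlatHom.Xi
import Groth.Agent.PerfLib.Coherent
import Groth.Agent.KiehlLib.Tensor
import Groth.Agent.QRlimLib.Unbounded

/-!
# Base change over an affine flat morphism
-/

set_option autoImplicit false
set_option linter.style.haveILetI false
set_option linter.unusedSectionVars false
set_option backward.isDefEq.respectTransparency false
set_option backward.isDefEq.respectTransparency.types false
set_option maxHeartbeats 1000000

universe u

open CategoryTheory CategoryTheory.Limits AlgebraicGeometry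

attribute [local instance] HasDerivedCategory.standard

namespace Groth.Agent.DualFMLib

/-- An affine scheme over the spectrum of its ring of sections. -/
theorem isPullback_isoSpec {Y Y' : Scheme.{u}} (g : Y' ⟶ Y) [IsAffine Y] [IsAffine Y'] :
    IsPullback g Y'.isoSpec.hom Y.isoSpec.hom (Spec.map g.appTop) :=
  IsPullback.of_vert_isIso ⟨(Scheme.isoSpec_hom_naturality g).symm⟩

theorem flat_appTop {Y Y' : Scheme.{u}} (g : Y' ⟶ Y) [IsAffine Y] [IsAffine Y'] [Flat g] :
    g.appTop.hom.Flat :=
  (HasRingHomProperty.iff_of_isAffine (P := @Flat)).1 inferInstance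

/-- Direct images of perfect complexes under proper maps are coherent and bounded above. -/
theorem isCohD_and_isLE_rpush {X Y : Scheme.{u}} [IsNoetherian Y] (f : X ⟶ Y) [IsProper f]
    [DCoh.HasRpush f] {P : DCoh.D X} (hP : DCoh.IsPerfect P) :
    DCoh.IsCohD ((DCoh.Rpush f).obj P) ∧ ∃ b : ℤ, ((DCoh.Rpush f).obj P).IsLE b := by
  haveI : IsLocallyNoetherian X := LocallyOfFiniteType.isLocallyNoetherian f
  haveI : CompactSpace ↥X := QuasiCompact.compactSpace_of_compactSpace f
  haveI : IsNoetherian X := {}
  obtain ⟨hc, _, b, -, hb⟩ := Groth.Agent.PerfLib.isCohD_and_bounded_of_isPerfect hP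
  obtain ⟨N, hN⟩ := QRlimLib.exists_uniform_bound f
  refine ⟨KiehlLib.isCohD_rpush_proper f P hc, b + N, ?_⟩
  rw [DerivedCategory.isLE_iff]
  exact fun i hi => hN P (KoszOrthLib.isQCohD_of_isPerfect hP) b hb i (by omega)

end Groth.Agent.DualFMLib
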