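import Groth.Agent.DualFMLib.FlatHom.Scal
import Groth.Agent.Dual3Lib.TwGE
import Groth.Agent.Dual3Lib.EvalSpec
import Groth.Agent.CohCmpLib.UnitFibre
import Groth.Agent.DerLib.ExactHomology
import Groth.Agent.KFlatLib.AffinePull
import Groth.Agent.CohGenLib.Pro

/-!
# Base change of maps out of the structure sheaf of an affine base
-/

set_option autoImplicit false
set_option linter.style.haveILetI false
set_option linter.unusedSectionVars false
set_option backward.isDefEq.respectTransparency false
set_option backward.isDefEq.respectTransparency.types false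
set_option maxHeartbeats 1000000
set_option synthInstance.maxHeartbeats 200000

universe w v u

open CategoryTheory CategoryTheory.Limits AlgebraicGeometry CategoryTheory.Pretriangulated
open DerivedCategory.TStructure (t)
open scoped TensorProduct

attribute [local instance] HasDerivedCategory.standard

namespace Groth.Agent.DualFMLib

section Homology

variable {A : Type w} [CommRing A] {C : Type u} [Category.{v} C] [Abelian C] [CategoryTheory.Linear A C]
  [HasDerivedCategory.{max u v} C]

instance linear_shortComplexFunctor' (m : ℤ) :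
    Functor.Linear A (HomologicalComplex.shortComplexFunctor C (ComplexShape.up ℤ) m) where
  map_smul f r := by
    apply ShortComplex.hom_ext <;> rfl

/-- Cohomology of a derived category is linear. -/
theorem semiLin_homology (m : ℤ) : SemiLin A A (DerivedCategory.homologyFunctor C m) := by
  haveI : Functor.Linear A (HomologicalComplex.homologyFunctor C (ComplexShape.up ℤ) m) :=
    Functor.linear_of_iso A (HomologicalComplex.homologyFunctorIso C (ComplexShape.up ℤ) m).symm
  haveI : Functor.Linear A (DerivedCategory.homologyFunctor C m) :=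
    haveI : Functor.Linear A (DerivedCategory.Q ⋙ DerivedCategory.homologyFunctor C m) :=
      Functor.linear_of_iso _ (DerivedCategory.homologyFunctorFactors C m).symm
    Localization.functor_linear_iff DerivedCategory.Q
      (HomologicalComplex.quasiIso C (ComplexShape.up ℤ)) A
      (DerivedCategory.Q ⋙ DerivedCategory.homologyFunctor C m)
      (DerivedCategory.homologyFunctor C m) |>.1 inferInstance
  exact ⟨fun a X => by rw [Functor.map_smul, CategoryTheory.Functor.map_id]; rfl⟩

end Homology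

section Flat

variable {X X' : Scheme.{u}} (g : X' ⟶ X) [Flat g] [DCoh.HasLpull g]

/-- Flat derived inverse image commutes with cohomology. -/
theorem nonempty_lpullHIso (j : ℤ) :
    Nonempty (DCoh.Lpull g ⋙ DerivedCategory.homologyFunctor X'.Modules j ≅
      DerivedCategory.homologyFunctor X.Modules j ⋙ Scheme.Modules.pullback g) := by
  haveI := CohGenLib.preservesFiniteLimits_pullback_flat g
  haveI : (Scheme.Modules.pullback g).IsLeftAdjoint :=
    ⟨_, ⟨Scheme.Modules.pullbackPushforwardAdjunction g⟩⟩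
  haveI : PreservesFiniteColimits (Scheme.Modules.pullback g) := inferInstance
  haveI : (Scheme.Modules.pullback g).mapDerivedCategory.IsLeftDerivedFunctor
      (Scheme.Modules.pullback g).mapDerivedCategoryFactorsh.hom
      (HomotopyCategory.quasiIso X.Modules (ComplexShape.up ℤ)) :=
    Functor.isLeftDerivedFunctor_of_inverts _ _ (Scheme.Modules.pullback g).mapDerivedCategoryFactorsh
  exact ⟨Functor.isoWhiskerRight (Functor.leftDerivedUnique (DCoh.Lpull g)
    (Scheme.Modules.pullback g).mapDerivedCategory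
    (Scheme.Modules.pullback g).mapDerivedCategoryFactorsh.hom
    ((KFlatLib.khFunctor (Scheme.Modules.pullback g)).totalLeftDerivedCounit DerivedCategory.Qh
      (HomotopyCategory.quasiIso X.Modules (ComplexShape.up ℤ)))
    (HomotopyCategory.quasiIso X.Modules (ComplexShape.up ℤ))).symm _ ≪≫
      DerLib.ExactHomology.homologyIso (Scheme.Modules.pullback g) j⟩

end Flat

/-- On an affine scheme maps out of `O` see the zeroth cohomology. -/
theorem bijective_H0_unit {S : Scheme.{u}} [IsAffine S] {O N : DCoh.D S}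
    (eO : O ≅ DCoh.inD S (Coh.structureModule S)) (hN : DCoh.IsQCohD N) :
    Function.Bijective fun φ : O ⟶ N => (DerivedCategory.homologyFunctor S.Modules 0).map φ := by
  haveI : (DCoh.inD S (Coh.structureModule S)).IsLE 0 := inferInstance
  haveI : O.IsLE 0 := t.isLE_of_iso eO.symm 0
  let π := (t.truncGEπ 0).app N
  have hT := t.triangleLTGE_distinguished 0 N
  let L := (t.truncLT 0).obj N
  haveI : ((t.truncGE 0).obj N).IsGE 0 := t.isGE_truncGE_obj N 0 0 le_rfl
  have hGq : DCoh.IsQCohD ((t.truncGE 0).obj N) := fun j => by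
    by_cases hj : 0 ≤ j
    · haveI := DerLib.Ghost.isIso_homologyMap_truncGEπ N 0 j hj
      exact @QCohLib.isQCoh_of_iso _ _ _
        (asIso ((DerivedCategory.homologyFunctor S.Modules j).map π)) (hN j)
    · exact QCohLib.isQCoh_of_isZero
        (DerivedCategory.isZero_of_isGE ((t.truncGE 0).obj N) 0 j (by omega))
  haveI hLle : L.IsLE (-1) := t.isLE_truncLT_obj N 0 (-1) (by omega)
  have hLq : DCoh.IsQCohD L := fun j => by
    by_cases hj : j ≤ -1
    · haveI := DerLib.Ghost.isIso_homologyMap_truncLTι N 0 j (by omega)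
      exact @QCohLib.isQCoh_of_iso _ _ _
        (asIso ((DerivedCategory.homologyFunctor S.Modules j).map ((t.truncLTι 0).app N))).symm (hN j)
    · exact QCohLib.isQCoh_of_isZero (DerivedCategory.isZero_of_isLE L (-1) j (by omega))
  have hzero : ∀ (i : ℤ), -1 < i → ∀ φ : O ⟶ L⟦i⟧, φ = 0 := fun i hi φ =>
    zero_of_epi_comp eO.inv (KoszOrthLib.hom_unit_shift_eq_zero_of_isLE hLq (-1) hi _)
  have hπ : Function.Bijective fun φ : O ⟶ N => φ ≫ π := by
    refine ⟨fun φ ψ h => sub_eq_zero.1 ?_, fun φ => ?_⟩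
    · obtain ⟨z, hz⟩ : ∃ z : O ⟶ L, φ - ψ = z ≫ (t.truncLTι 0).app N :=
        Triangle.coyoneda_exact₂ _ hT _ (by
          change (φ - ψ) ≫ π = 0
          rw [Preadditive.sub_comp]
          exact sub_eq_zero.2 h)
      have h0 : z ≫ ((shiftFunctorZero (DCoh.D S) ℤ).inv.app L) = 0 := hzero 0 (by omega) _
      rw [hz, zero_of_comp_mono _ h0, zero_comp]
    · obtain ⟨z, hz⟩ : ∃ z : O ⟶ N, φ = z ≫ π :=
        Triangle.coyoneda_exact₃ _ hT φ (hzero 1 (by omega) _)
      exact ⟨z, hz.symm⟩
  haveI := DerLib.Ghost.isIso_homologyMap_truncGEπ N 0 0 le_rfl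
  have h1 := (Dual3Lib.bijective_homologyMap (K := O) (L := (t.truncGE 0).obj N) 0).comp hπ
  let u := (DerivedCategory.homologyFunctor S.Modules 0).map π
  haveI : IsIso u := inferInstanceAs (IsIso ((DerivedCategory.homologyFunctor S.Modules 0).map
    ((t.truncGEπ 0).app N)))
  refine (Function.Bijective.of_comp_iff'
    (g := fun φ : O ⟶ N => (DerivedCategory.homologyFunctor S.Modules 0).map φ)
    (f := fun z : (DerivedCategory.homologyFunctor S.Modules 0).obj O ⟶
      (DerivedCategory.homologyFunctor S.Modules 0).obj N => z ≫ u)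
    ⟨fun a b h => (cancel_mono u).1 h, fun z => ⟨z ≫ inv u, by simp⟩⟩).1 ?_
  convert h1 using 1
  all_goals exact funext fun φ => (Functor.map_comp _ _ _).symm

theorem unitSecEquiv_eq {Z : Scheme.{u}} {M : Z.Modules} (φ : Coh.structureModule Z ⟶ M) :
    KFlatLib.unitSecEquiv M φ = φ.app ⊤ (show Γ(Coh.structureModule Z, ⊤) from (1 : Γ(Z, ⊤))) := rfl

/-- A change of rings in a base change statement. -/
theorem bijective_of_ringIso {A A' R R' H M N : Type*} [CommRing A] [CommRing A'] [Algebra A A']
    [CommRing R] [CommRing R'] [Algebra R R'] [AddCommGroup H] [Module A H] [AddCommGroup M]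
    [Module R M] [AddCommGroup N] [Module R' N] [Module R N] [IsScalarTower R R' N]
    (ρ : A ≃+* R) (ρ' : A' ≃+* R') (hρ : ∀ a, ρ' (algebraMap A A' a) = algebraMap R R' (ρ a))
    (s : H ≃+ M) (hs : ∀ a x, s (a • x) = ρ a • s x) (ψ : M →ₗ[R] N) (hψ : IsBaseChange R' ψ)
    (F : A' ⊗[A] H →+ N) (hF : ∀ a' x, F (a' ⊗ₜ x) = ρ' a' • ψ (s x)) : Function.Bijective F := by
  let p : A' ⊗[A] H →+ R' ⊗[R] M := TensorProduct.liftAddHom
    (AddMonoidHom.mk' (fun a' => AddMonoidHom.mk' (fun x => ρ' a' ⊗ₜ[R] s x)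
      fun x y => by rw [map_add, TensorProduct.tmul_add])
      fun a b => AddMonoidHom.ext fun x => by simp [TensorProduct.add_tmul])
    fun a a' x => by
      change ρ' (a • a') ⊗ₜ[R] s x = ρ' a' ⊗ₜ[R] s (a • x)
      rw [hs, Algebra.smul_def, map_mul, hρ, ← Algebra.smul_def, TensorProduct.smul_tmul]
  let q : R' ⊗[R] M →+ A' ⊗[A] H := TensorProduct.liftAddHom
    (AddMonoidHom.mk' (fun r => AddMonoidHom.mk' (fun m => ρ'.symm r ⊗ₜ[A] s.symm m)
      fun x y => by rw [map_add, TensorProduct.tmul_add])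
      fun a b => AddMonoidHom.ext fun x => by simp [TensorProduct.add_tmul])
    fun a r m => by
      change ρ'.symm (a • r) ⊗ₜ[A] s.symm m = ρ'.symm r ⊗ₜ[A] s.symm (a • m)
      have h1 : s.symm (a • m) = ρ.symm a • s.symm m := s.injective (by simp [hs])
      have h2 : ρ'.symm (a • r) = ρ.symm a • ρ'.symm r := ρ'.injective (by
        simp [Algebra.smul_def, hρ])
      rw [h1, h2, TensorProduct.smul_tmul]
  have hqp : ∀ t, q (p t) = t := fun t => by
    induction t with
    | zero => simp
    | tmul a x => simp [p, q]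
    | add x y hx hy => simp [hx, hy]
  have hpq : ∀ t, p (q t) = t := fun t => by
    induction t with
    | zero => simp
    | tmul a x => simp [p, q]
    | add x y hx hy => simp [hx, hy]
  have hF' : ∀ t, F t = hψ.equiv (p t) := fun t => by
    induction t with
    | zero => simp
    | tmul a x => simp [p, hF, hψ.equiv_tmul]
    | add x y hx hy => simp [hx, hy]
  have h : (F : A' ⊗[A] H → N) = hψ.equiv ∘ p := funext hF'
  rw [h]
  exact hψ.equiv.bijective.comp ⟨Function.LeftInverse.injective hqp,
    Function.RightInverse.surjective hpq⟩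

section Affine

variable {A A' : Type u} [CommRing A] [CommRing A'] [Algebra A A'] {X X' : Scheme.{u}}
  [X.Over (Spec (CommRingCat.of A))] [X'.Over (Spec (CommRingCat.of A'))] (g : X' ⟶ X)
  [IsAffine X] [IsAffine X']
  (hg : g ≫ (X ↘ Spec (CommRingCat.of A)) =
      (X' ↘ Spec (CommRingCat.of A')) ≫ Spec.map (CommRingCat.ofHom (algebraMap A A')))
  (hA : Function.Bijective (Coh.toGlobal (X ↘ Spec (CommRingCat.of A))))
  (hA' : Function.Bijective (Coh.toGlobal (X' ↘ Spec (CommRingCat.of A'))))

include hA hA' in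
theorem bijective_eta_pullback_unit (M : X.Modules) [Coh.IsQCoh M] :
    Function.Bijective (eta (semiLin_pullback g hg) (Coh.structureModule X) M) := by
  let G := Scheme.Modules.pullback g
  let one : Γ(Coh.structureModule X, ⊤) := (1 : Γ(X, ⊤))
  let E : (G.obj (Coh.structureModule X) ⟶ G.obj M) →+ Γ(G.obj M, ⊤) :=
    AddMonoidHom.mk' (fun ψ => ψ.app ⊤ (KFlatLib.puSec g one)) fun _ _ => rfl
  have hE : Function.Bijective E := by
    have : (E : _ → _) = KFlatLib.unitSecEquiv (G.obj M) ∘
        (KFlatLib.pullUnitIso g).homFromEquiv := funext fun ψ => by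
      change ψ.app ⊤ (KFlatLib.puSec g one) = KFlatLib.unitSecEquiv _ ((KFlatLib.pullUnitIso g).inv ≫ ψ)
      rw [unitSecEquiv_eq]
      change _ = ψ.app ⊤ ((KFlatLib.pullUnitIso g).inv.app ⊤ _)
      congr 1
      have h1 : (KFlatLib.pullUnitIso g).hom.app (g ⁻¹ᵁ ⊤) (KFlatLib.puSec g one) =
          (ClSub.unitToPush g).app ⊤ one := CohCmpLib.pullUnitIso_puSec g one
      have h2 : (ClSub.unitToPush g).app ⊤ one = (show Γ(X', ⊤) from 1) := map_one (g.app ⊤).hom
      have h3 := congrArg ((KFlatLib.pullUnitIso g).inv.app ⊤) (h1.trans h2)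
      refine Eq.trans ?_ h3
      exact (congr(Scheme.Modules.Hom.app $((KFlatLib.pullUnitIso g).hom_inv_id) ⊤
        (KFlatLib.puSec g one))).symm
    rw [this]
    exact (KFlatLib.unitSecEquiv _).bijective.comp (Equiv.bijective _)
  have hle : (⊤ : X'.Opens) ≤ g ⁻¹ᵁ ⊤ := le_rfl
  letI : Algebra Γ(X, ⊤) Γ(X', ⊤) := (g.appLE ⊤ ⊤ hle).hom.toAlgebra
  letI : Module Γ(X, ⊤) Γ(KFlatLib.pb g M, ⊤) :=
    Module.compHom _ (algebraMap Γ(X, ⊤) Γ(X', ⊤))
  haveI : IsScalarTower Γ(X, ⊤) Γ(X', ⊤) Γ(KFlatLib.pb g M, ⊤) :=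
    IsScalarTower.of_algebraMap_smul fun _ _ => rfl
  let ψ₀ : Γ(M, ⊤) →ₗ[Γ(X, ⊤)] Γ(KFlatLib.pb g M, ⊤) :=
    { toFun := KFlatLib.puSecLE g M hle
      map_add' := map_add _
      map_smul' := fun r m => KFlatLib.puSecLE_smul g M hle r m }
  have hψ : IsBaseChange Γ(X', ⊤) ψ₀ := KFlatLib.isBaseChange_puSec g M (isAffineOpen_top X)
    (isAffineOpen_top X') hle (fun _ => rfl) ψ₀ fun _ => rfl
  let s : (Coh.structureModule X ⟶ M) ≃+ Γ(M, ⊤) :=
    { KFlatLib.unitSecEquiv M with map_add' := fun _ _ => rfl }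
  refine (Function.Bijective.of_comp_iff' hE _).1 ?_
  change Function.Bijective (E.comp (eta (semiLin_pullback g hg) (Coh.structureModule X) M))
  let τ : A →+* Γ(X, ⊤) := Coh.toGlobal (X ↘ Spec (CommRingCat.of A))
  let τ' : A' →+* Γ(X', ⊤) := Coh.toGlobal (X' ↘ Spec (CommRingCat.of A'))
  have hτ : Function.Bijective τ := hA
  have hτ' : Function.Bijective τ' := hA'
  refine bijective_of_ringIso (RingEquiv.ofBijective τ hτ) (RingEquiv.ofBijective τ' hτ') (fun a => ?_)
    s (fun a φ => ?_) ψ₀ hψ _ fun a' φ => ?_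
  · change _ = (g.appLE ⊤ ⊤ hle).hom _
    rw [Scheme.Hom.appLE]
    refine (toGlobal_compat g hg a).symm.trans ?_
    simp
    rfl
  · change (a • φ).app ⊤ one = _ • φ.app ⊤ one
    rw [KLin.smul_app_apply]
    simp
    rfl
  · change (a' • G.map φ).app ⊤ (KFlatLib.puSec g one) = _ • KFlatLib.puSecLE g M hle (φ.app ⊤ one)
    rw [KLin.smul_app_apply]
    have h4 : (G.map φ).app ⊤ (KFlatLib.puSec g one) = KFlatLib.puSecLE g M hle (φ.app ⊤ one) := by
      refine (KFlatLib.puSec_natural g φ (U := ⊤) one).trans ?_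
      rw [KFlatLib.puSecLE_apply]
      exact (congr($((KFlatLib.pb g M).presheaf.map_id (Opposite.op ⊤)) _)).symm
    rw [h4]
    simp
    rfl

variable [Flat g] [DCoh.HasLpull g]

include hA hA' in
theorem bijective_eta_lpull_unit [(DCoh.Lpull g).Additive] {O : DCoh.D X}
    (eO : O ≅ DCoh.inD X (Coh.structureModule X)) (N : DCoh.D X) (hN : DCoh.IsQCohD N) :
    Function.Bijective (eta (semiLin_lpull g hg) O N) := by
  obtain ⟨Θ⟩ := nonempty_lpullHIso g 0
  let H := DerivedCategory.homologyFunctor X.Modules 0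
  let H' := DerivedCategory.homologyFunctor X'.Modules 0
  let eO' : (DCoh.Lpull g).obj O ≅ DCoh.inD X' (Coh.structureModule X') :=
    (DCoh.Lpull g).mapIso (eO ≪≫ (DerivedCategory.singleFunctorIsoCompQ X.Modules 0).app _) ≪≫
      KiehlLib.lpullUnitIso g ≪≫ ((DerivedCategory.singleFunctorIsoCompQ X'.Modules 0).app _).symm
  let e : (O ⟶ N) →ₗ[A] (H.obj O ⟶ H.obj N) :=
    { toFun := fun φ => H.map φ
      map_add' := fun _ _ => H.map_add
      map_smul' := fun a φ => by
        rw [(semiLin_homology (A := A) 0).map_smul]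
        rfl }
  let e' : ((DCoh.Lpull g).obj O ⟶ (DCoh.Lpull g).obj N) →ₗ[A']
      ((Scheme.Modules.pullback g).obj (H.obj O) ⟶ (Scheme.Modules.pullback g).obj (H.obj N)) :=
    { toFun := fun ψ => Θ.inv.app O ≫ H'.map ψ ≫ Θ.hom.app N
      map_add' := fun x y => by simp [H'.map_add]
      map_smul' := fun a ψ => by
        rw [(semiLin_homology (A := A') 0).map_smul, Linear.smul_comp, Linear.comp_smul]
        rfl }
  haveI : Coh.IsQCoh (H.obj N) := hN 0
  refine (bijective_eta_transfer (semiLin_lpull g hg) (semiLin_pullback g hg) e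
    (bijective_H0_unit eO hN) e' ?_ fun φ => ?_).2 ?_
  · exact (((Θ.app O).homCongr (Θ.app N))).bijective.comp
      (bijective_H0_unit eO' (KFlatLib.isQCohD_lpull g N hN))
  · change Θ.inv.app O ≫ H'.map ((DCoh.Lpull g).map φ) ≫ Θ.hom.app N = (Scheme.Modules.pullback g).map (H.map φ)
    have := Θ.hom.naturality φ
    simp only [Functor.comp_map] at this
    rw [this, Iso.inv_hom_id_app_assoc]
  · exact bijective_eta_congr _ (H.mapIso eO ≪≫
      (DerivedCategory.singleFunctorCompHomologyFunctorIso X.Modules 0).app _) (Iso.refl _)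
      (bijective_eta_pullback_unit g hg hA hA' (H.obj N))

end Affine

end Groth.Agent.DualFMLib
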