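import Groth.Agent.DualFMLib.FlatHom.PC
import Groth.Agent.Dual3Lib.Detect
import Groth.Agent.QRlimLib.Affine
import Groth.Prelude.Def_Dual3

/-!
# Flat affine base change of the right adjoint of the direct image
-/

set_option autoImplicit false
set_option linter.style.haveILetI false
set_option linter.unusedSectionVars false
set_option backward.isDefEq.respectTransparency false
set_option backward.isDefEq.respectTransparency.types false
set_option maxHeartbeats 1000000
set_option synthInstance.maxHeartbeats 200000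

universe w u

open CategoryTheory CategoryTheory.Limits AlgebraicGeometry CategoryTheory.Pretriangulated
open scoped TensorProduct

attribute [local instance] HasDerivedCategory.standard

namespace Groth.Agent.DualFMLib

section Abstract

/-- A map compatible with two bijective comparisons is bijective. -/
theorem bijective_of_compat {A A' : Type w} [CommRing A] [CommRing A'] [Algebra A A']
    {C C' C₀ C₀' : Type*} [Category* C] [Preadditive C] [CategoryTheory.Linear A C]
    [Category* C'] [Preadditive C'] [CategoryTheory.Linear A' C']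
    [Category* C₀] [Preadditive C₀] [CategoryTheory.Linear A C₀]
    [Category* C₀'] [Preadditive C₀'] [CategoryTheory.Linear A' C₀']
    {G : C ⥤ C'} [G.Additive] (hG : SemiLin A A' G) {G₀ : C₀ ⥤ C₀'} [G₀.Additive]
    (hG₀ : SemiLin A A' G₀) {P W : C} {P₀ W₀ : C₀} (e : (P ⟶ W) →ₗ[A] (P₀ ⟶ W₀))
    (he : Function.Bijective e) (h : Function.Bijective (eta hG P W))
    (h₀ : Function.Bijective (eta hG₀ P₀ W₀))
    (e' : (G.obj P ⟶ G.obj W) →ₗ[A'] (G₀.obj P₀ ⟶ G₀.obj W₀))
    (hc : ∀ φ, e' (G.map φ) = G₀.map (e φ)) : Function.Bijective e' := by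
  let E := LinearEquiv.ofBijective e he
  have h1 : ∀ t, e' (eta hG P W t) = eta hG₀ P₀ W₀ (LinearEquiv.lTensor A' E t) := fun t => by
    induction t with
    | zero => simp
    | tmul a' φ => simp [E, map_smul, hc]
    | add x y hx hy => simp only [map_add, hx, hy]
  have h2 : e' ∘ eta hG P W = eta hG₀ P₀ W₀ ∘ LinearEquiv.lTensor A' E := funext h1
  exact (Function.Bijective.of_comp_iff _ h).1 (h2 ▸ h₀.comp (LinearEquiv.lTensor A' E).bijective)

variable {CX CY CX' CY' : Type*} [Category* CX] [Category* CY] [Category* CX'] [Category* CY']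
  {F : CX ⥤ CY} {a : CY ⥤ CX} {F' : CX' ⥤ CY'} {a' : CY' ⥤ CX'} {G : CY ⥤ CY'} {Gr : CY' ⥤ CY}
  {G' : CX ⥤ CX'} {Gr' : CX' ⥤ CX}

/-- Changing the adjunctions in the base change morphism. -/
theorem isIso_bc_congr {adjg adjg₀ : G ⊣ Gr} {adjg' adjg₀' : G' ⊣ Gr'}
    (e : Gr' ⋙ F ≅ F' ⋙ Gr) (K : CX)
    (h : IsIso ((adjg₀.homEquiv _ _).symm (F.map (adjg₀'.unit.app K) ≫ e.hom.app (G'.obj K)))) :
    IsIso ((adjg.homEquiv _ _).symm (F.map (adjg'.unit.app K) ≫ e.hom.app (G'.obj K))) := by
  let u := Adjunction.leftAdjointUniq adjg₀' adjg'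
  have hu : adjg'.unit.app K = adjg₀'.unit.app K ≫ Gr'.map (u.hom.app K) :=
    (Adjunction.unit_leftAdjointUniq_hom_app adjg₀' adjg' K).symm
  have : (adjg.homEquiv _ _).symm (F.map (adjg'.unit.app K) ≫ e.hom.app (G'.obj K)) =
      (adjg.homEquiv _ _).symm (F.map (adjg₀'.unit.app K) ≫ e.hom.app (G'.obj K)) ≫
        F'.map (u.hom.app K) := by
    rw [← Adjunction.homEquiv_naturality_right_symm, hu, Functor.map_comp,
      Category.assoc, Category.assoc]
    congr 2
    exact e.hom.naturality (u.hom.app K)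
  rw [this]
  exact @IsIso.comp_isIso _ _ _ _ _ _ _ (DerBCLib.isIso_symm_congr adjg adjg₀ _ h) inferInstance

/-- The base change map of right adjoints is compatible with that of direct images. -/
theorem bc_identity (adj : F ⊣ a) (adj' : F' ⊣ a') (e : Gr' ⋙ F ≅ F' ⋙ Gr)
    (adjg : G ⊣ Gr) (adjg' : G' ⊣ Gr') (K : CY)
    (ξ : Gr'.obj (a'.obj (G.obj K)) ⟶ a.obj (Gr.obj (G.obj K)))
    (hξ : ξ = adj.homEquiv _ _ (e.hom.app _ ≫ Gr.map (adj'.counit.app _)))
    [IsIso ξ] (b : G'.obj (a.obj K) ⟶ a'.obj (G.obj K))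
    (hb : b = G'.map (a.map (adjg.unit.app K)) ≫ G'.map (inv ξ) ≫ adjg'.counit.app _)
    {T : CX} (φ : T ⟶ a.obj K) :
    (adjg.homEquiv _ _).symm (F.map (adjg'.unit.app T) ≫ e.hom.app (G'.obj T)) ≫
      (adj'.homEquiv _ _).symm (G'.map φ ≫ b) = G.map ((adj.homEquiv _ _).symm φ) := by
  have hb' : adjg'.homEquiv _ _ b = a.map (adjg.unit.app K) ≫ inv ξ := by
    rw [← Equiv.eq_symm_apply, hb, Adjunction.homEquiv_counit, Functor.map_comp, Category.assoc]
  apply (adjg.homEquiv _ _).injective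
  obtain ⟨v, hv⟩ : ∃ v, v = G'.map φ ≫ b := ⟨_, rfl⟩
  rw [← hv]
  have hv' : adjg'.homEquiv _ _ v = φ ≫ a.map (adjg.unit.app K) ≫ inv ξ := by
    rw [hv, Adjunction.homEquiv_naturality_left, hb']
  have h1 : adjg.homEquiv _ _ ((adjg.homEquiv _ _).symm (F.map (adjg'.unit.app T) ≫ e.hom.app (G'.obj T)) ≫
      (adj'.homEquiv _ _).symm v) =
      (adj.homEquiv _ _).symm (adjg'.homEquiv _ _ v ≫ ξ) := by
    have hξ' : (adj.homEquiv _ _).symm ξ = e.hom.app _ ≫ Gr.map (adj'.counit.app _) := by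
      rw [hξ]
      exact Equiv.symm_apply_apply _ _
    rw [Adjunction.homEquiv_naturality_right, Equiv.apply_symm_apply,
      Adjunction.homEquiv_naturality_left_symm, hξ', adjg'.homEquiv_unit,
      Functor.map_comp, Category.assoc, adj'.homEquiv_counit, Functor.map_comp, Category.assoc]
    have h2 := e.hom.naturality v
    simp only [Functor.comp_map] at h2
    rw [reassoc_of% h2]
  rw [h1, hv', Category.assoc, Category.assoc, IsIso.inv_hom_id, Category.comp_id,
    Adjunction.homEquiv_naturality_right_symm, adjg.homEquiv_unit]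
  exact adjg.unit.naturality ((adj.homEquiv _ _).symm φ)

end Abstract

section Square

variable {X Y X' Y' : Scheme.{u}} {f : X ⟶ Y} {g : Y' ⟶ Y} {f' : X' ⟶ Y'} {g' : X' ⟶ X}
  [DCoh.HasRpush f] [DCoh.HasRpush f'] [DCoh.HasRpush g] [DCoh.HasRpush g']

/-- The canonical identification of composite direct images, on `DQCoh`. -/
noncomputable def sqQ (w : g' ≫ f = f' ≫ g) (hf : DCoh.RpushPreservesQCoh f)
    (hf' : DCoh.RpushPreservesQCoh f') (hg : DCoh.RpushPreservesQCoh g)
    (hg' : DCoh.RpushPreservesQCoh g') :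
    DCoh.RpushQ g' hg' ⋙ DCoh.RpushQ f hf ≅ DCoh.RpushQ f' hf' ⋙ DCoh.RpushQ g hg :=
  NatIso.ofComponents (fun T => ObjectProperty.isoMk _ ((DerBCLib.rpushSqIso w).app T.obj))
    (fun {_ _} u => ObjectProperty.hom_ext _ ((DerBCLib.rpushSqIso w).hom.naturality u.hom))

/-- `Lg^* ⊣ Rg_*` on `DQCoh`. -/
noncomputable def adjQ [DCoh.HasLpull g] (hLg : Dual3.LpullPreservesQCoh g)
    (hg : DCoh.RpushPreservesQCoh g) : Dual3.LpullQ g hLg ⊣ DCoh.RpushQ g hg :=
  Adjunction.mkOfHomEquiv
    { homEquiv := fun T M =>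
        { toFun := fun v => ObjectProperty.homMk ((KFlatLib.lpullRpushAdj g).homEquiv _ _ v.hom)
          invFun := fun v => ObjectProperty.homMk (((KFlatLib.lpullRpushAdj g).homEquiv _ _).symm v.hom)
          left_inv := fun v => ObjectProperty.hom_ext _
            (((KFlatLib.lpullRpushAdj g).homEquiv _ _).symm_apply_apply v.hom)
          right_inv := fun v => ObjectProperty.hom_ext _
            (((KFlatLib.lpullRpushAdj g).homEquiv _ _).apply_symm_apply v.hom) }
      homEquiv_naturality_left_symm := fun _ _ => ObjectProperty.hom_ext _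
        ((KFlatLib.lpullRpushAdj g).homEquiv_naturality_left_symm _ _)
      homEquiv_naturality_right := fun _ _ => ObjectProperty.hom_ext _
        ((KFlatLib.lpullRpushAdj g).homEquiv_naturality_right _ _) }

theorem adjQ_unit [DCoh.HasLpull g] (hLg : Dual3.LpullPreservesQCoh g) (hg : DCoh.RpushPreservesQCoh g)
    (T : DCoh.DQCoh Y) : ((adjQ hLg hg).unit.app T).hom = (KFlatLib.lpullRpushAdj g).unit.app T.obj := by
  simp [adjQ]
  exact (KFlatLib.lpullRpushAdj g).homEquiv_id _

variable [DCoh.HasLpull g] [DCoh.HasLpull g'] {hf : DCoh.RpushPreservesQCoh f}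
  {hf' : DCoh.RpushPreservesQCoh f'} {hg : DCoh.RpushPreservesQCoh g} {hg' : DCoh.RpushPreservesQCoh g'}
  {hLg : Dual3.LpullPreservesQCoh g} {hLg' : Dual3.LpullPreservesQCoh g'}
  (adjg : Dual3.LpullQ g hLg ⊣ DCoh.RpushQ g hg) (adjg' : Dual3.LpullQ g' hLg' ⊣ DCoh.RpushQ g' hg')

/-- Flat base change on `DQCoh`. -/
theorem isIso_bcPush [QuasiCompact f] [QuasiSeparated f] [Flat g] (hsq : IsPullback g' f' f g)
    (T : DCoh.DQCoh X) : IsIso (Dual3.bcPush (sqQ hsq.w hf hf' hg hg') adjg adjg' T) := by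
  refine isIso_bc_congr (adjg₀ := adjQ hLg hg) (adjg₀' := adjQ hLg' hg') _ T ?_
  have h := DerBCLib.isIso_baseChangeApp hsq (KFlatLib.lpullRpushAdj g) (KFlatLib.lpullRpushAdj g')
    (fun T hT hTq => DerBCLib.hasLocModel_flat hT hTq) T.obj T.property
  let β₀ := ((adjQ hLg hg).homEquiv _ _).symm
    ((DCoh.RpushQ f hf).map ((adjQ hLg' hg').unit.app T) ≫
      (sqQ hsq.w hf hf' hg hg').hom.app ((Dual3.LpullQ g' hLg').obj T))
  have heq : β₀.hom = DCoh.baseChangeApp (KFlatLib.lpullRpushAdj g) (KFlatLib.lpullRpushAdj g')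
      (DerBCLib.rpushSqIso hsq.w) T.obj := by
    simp only [β₀, adjQ, Adjunction.mkOfHomEquiv_homEquiv, Equiv.coe_fn_symm_mk]
    change ((KFlatLib.lpullRpushAdj g).homEquiv _ _).symm
      ((DCoh.Rpush f).map _ ≫ (DerBCLib.rpushSqIso hsq.w).hom.app _) = _
    have h0 := adjQ_unit hLg' hg' T
    simp only [adjQ] at h0
    exact congrArg (fun z => ((KFlatLib.lpullRpushAdj g).homEquiv _ _).symm
      ((DCoh.Rpush f).map z ≫ (DerBCLib.rpushSqIso hsq.w).hom.app _)) h0
  have h' : IsIso β₀.hom := heq.symm ▸ h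
  haveI : IsIso ((DCoh.IsQCohD (X := Y')).ι.map β₀) := h'
  exact isIso_of_fully_faithful (DCoh.IsQCohD (X := Y')).ι β₀

variable {A A' : Type u} [CommRing A] [CommRing A'] [Algebra A A'] [Module.Flat A A']
  [Y.Over (Spec (CommRingCat.of A))] [Y'.Over (Spec (CommRingCat.of A'))]
  {a : DCoh.DQCoh Y ⥤ DCoh.DQCoh X} {a' : DCoh.DQCoh Y' ⥤ DCoh.DQCoh X'}

/-- Base change of the right adjoint along a flat affine morphism of affine schemes, tested on
perfect complexes. -/
theorem isIso_bcMap_affine [CompactSpace X] [QuasiSeparatedSpace X] [IsAffine Y] [IsAffine Y']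
    [QuasiCompact f] [QuasiSeparated f]
    (hsq : IsPullback g' f' f g)
    (hY : IsPullback g (Y' ↘ Spec (CommRingCat.of A')) (Y ↘ Spec (CommRingCat.of A))
      (Spec.map (CommRingCat.ofHom (algebraMap A A'))))
    (adj : DCoh.RpushQ f hf ⊣ a) (adj' : DCoh.RpushQ f' hf' ⊣ a') (K : DCoh.DQCoh Y)
    [(DCoh.Lpull g).Additive]
    (hK : ∀ P : DCoh.D X, DCoh.IsPerfect P →
      Function.Bijective (eta (semiLin_lpull g hY.w) ((DCoh.Rpush f).obj P) K.obj))
    (hξ : IsIso (Dual3.xi adj adj' (sqQ hsq.w hf hf' hg hg') ((Dual3.LpullQ g hLg).obj K))) :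
    IsIso (Dual3.bcMap adj adj' (sqQ hsq.w hf hf' hg hg') adjg adjg' K hξ) := by
  haveI := hξ
  haveI : Flat g := MorphismProperty.of_isPullback (P := @Flat) hY.flip flat_specMap
  haveI : IsAffineHom g := inferInstance
  haveI : IsAffineHom g' := MorphismProperty.of_isPullback (P := @IsAffineHom) hsq.flip inferInstance
  letI : X.Over (Spec (CommRingCat.of A)) := ⟨f ≫ Y ↘ Spec (CommRingCat.of A)⟩
  letI : X'.Over (Spec (CommRingCat.of A')) := ⟨f' ≫ Y' ↘ Spec (CommRingCat.of A')⟩
  haveI : f.IsOver (Spec (CommRingCat.of A)) := ⟨rfl⟩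
  haveI : f'.IsOver (Spec (CommRingCat.of A')) := ⟨rfl⟩
  have hX : IsPullback g' (X' ↘ Spec (CommRingCat.of A')) (X ↘ Spec (CommRingCat.of A))
      (Spec.map (CommRingCat.ofHom (algebraMap A A'))) := hsq.paste_vert hY
  haveI := additive_lpull g'
  obtain ⟨_, _⟩ := exists_isTriangulated_lpull g'
  let b := Dual3.bcMap adj adj' (sqQ hsq.w hf hf' hg hg') adjg adjg' K hξ
  have key : ∀ T : DCoh.DQCoh X, DCoh.IsPerfect T.obj →
      Function.Bijective fun y : (Dual3.LpullQ g' hLg').obj T ⟶ (Dual3.LpullQ g' hLg').obj (a.obj K) => y ≫ b := by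
    intro T hT
    let β := Dual3.bcPush (sqQ hsq.w hf hf' hg hg') adjg adjg' T
    haveI : IsIso β := isIso_bcPush adjg adjg' hsq T
    haveI : IsIso β.hom := inferInstanceAs (IsIso ((DCoh.IsQCohD (X := Y')).ι.map β))
    haveI : (DCoh.Rpush f).Additive := by
      obtain ⟨_, _⟩ := QRlimLib.exists_isTriangulated_rpush f
      infer_instance
    haveI : (DCoh.Rpush f').Additive := by
      obtain ⟨_, _⟩ := QRlimLib.exists_isTriangulated_rpush f'
      infer_instance
    let e : (T.obj ⟶ (a.obj K).obj) →ₗ[A] ((DCoh.Rpush f).obj T.obj ⟶ K.obj) :=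
      { toFun := fun φ => (DCoh.Rpush f).map φ ≫ (adj.counit.app K).hom
        map_add' := fun x y => by rw [Functor.map_add, Preadditive.add_comp]
        map_smul' := fun r x => by
          rw [(semiLin_rpush_self f).map_smul, Linear.smul_comp]
          rfl }
    let e' : ((DCoh.Lpull g').obj T.obj ⟶ (DCoh.Lpull g').obj (a.obj K).obj) →ₗ[A']
        ((DCoh.Lpull g).obj ((DCoh.Rpush f).obj T.obj) ⟶ (DCoh.Lpull g).obj K.obj) :=
      { toFun := fun ψ => β.hom ≫ (DCoh.Rpush f').map (ψ ≫ b.hom) ≫ (adj'.counit.app _).hom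
        map_add' := fun x y => by
          rw [Preadditive.add_comp, Functor.map_add, Preadditive.add_comp, Preadditive.comp_add]
        map_smul' := fun r x => by
          rw [Linear.smul_comp, (semiLin_rpush_self f').map_smul, Linear.smul_comp, Linear.comp_smul]
          rfl }
    have he : Function.Bijective e := by
      refine ⟨fun x y h => ?_, fun z => ?_⟩
      · have h' : (adj.homEquiv T K).symm (ObjectProperty.homMk x) =
            (adj.homEquiv T K).symm (ObjectProperty.homMk y) := by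
          rw [Adjunction.homEquiv_counit, Adjunction.homEquiv_counit]
          exact ObjectProperty.hom_ext _ h
        exact congrArg (fun q => q.hom) ((adj.homEquiv T K).symm.injective h')
      · refine ⟨(adj.homEquiv T K (ObjectProperty.homMk z)).hom, ?_⟩
        have := (adj.homEquiv T K).symm_apply_apply (ObjectProperty.homMk z)
        rw [Adjunction.homEquiv_counit] at this
        exact congrArg (fun q => q.hom) this
    have he' : Function.Bijective e' := by
      refine bijective_of_compat (semiLin_lpull g' hX.w) (semiLin_lpull g hY.w) e he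
        (bij_perfect hX T.obj hT (a.obj K).obj (a.obj K).property).eta_bijective (hK T.obj hT) e' fun φ => ?_
      have h := bc_identity adj adj' (sqQ hsq.w hf hf' hg hg') adjg adjg' K
        (Dual3.xi adj adj' (sqQ hsq.w hf hf' hg hg') ((Dual3.LpullQ g hLg).obj K)) rfl b rfl
        (ObjectProperty.homMk φ : T ⟶ a.obj K)
      rw [Adjunction.homEquiv_counit, Adjunction.homEquiv_counit] at h
      exact congrArg (fun q => q.hom) h
    let Φ : ((Dual3.LpullQ g' hLg').obj T ⟶ a'.obj ((Dual3.LpullQ g hLg).obj K)) ≃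
        ((DCoh.Lpull g).obj ((DCoh.Rpush f).obj T.obj) ⟶ (DCoh.Lpull g).obj K.obj) :=
      ((adj'.homEquiv _ _).symm.trans (asIso β).symm.homFromEquiv).trans
        ((DCoh.IsQCohD (X := Y')).fullyFaithfulι.homEquiv)
    refine ⟨fun x y h => ObjectProperty.hom_ext _ (he'.1 ?_), fun z => ?_⟩
    · change β.hom ≫ (DCoh.Rpush f').map (x ≫ b).hom ≫ _ = β.hom ≫ (DCoh.Rpush f').map (y ≫ b).hom ≫ _
      rw [show x ≫ b = y ≫ b from h]
    · obtain ⟨ψ, hψ⟩ := he'.2 (β.hom ≫ ((adj'.homEquiv _ _).symm z).hom)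
      refine ⟨ObjectProperty.homMk ψ, ?_⟩
      have h1 : ((adj'.homEquiv _ _).symm ((ObjectProperty.homMk ψ :
          (Dual3.LpullQ g' hLg').obj T ⟶ (Dual3.LpullQ g' hLg').obj (a.obj K)) ≫ b)) =
          (adj'.homEquiv _ _).symm z := by
        refine ObjectProperty.hom_ext _ ((cancel_epi β.hom).1 ?_)
        rw [Adjunction.homEquiv_counit]
        exact hψ
      exact (adj'.homEquiv _ _).symm.injective h1
  haveI : IsIso ((DCoh.RpushQ g' hg').map b) := by
    refine KoszOrthLib.BrownLS.isIso_of_bijective_comp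
      (E := fun _ : PUnit.{u + 1} => KoszOrthLib.genQ X) KoszOrthLib.isZero_of_forall_hom_genQ _ fun p => ?_
    let P := KoszOrthLib.BrownLS.sh (fun _ : PUnit.{u + 1} => KoszOrthLib.genQ X) p
    have hP : DCoh.IsPerfect P.obj := PerfLib.isPerfect_of_iso
      (((DCoh.IsQCohD (X := X)).ι.commShiftIso p.2).app (KoszOrthLib.genQ X)).symm
      (PerfLib.isPerfect_shift KoszOrthLib.isPerfect_genQ p.2)
    exact (Dual3Lib.bijective_adj adjg' P b).1 (key P hP)
  haveI : IsIso b.hom := QRlimLib.isIso_of_isIso_rpush g' ((Dual3.LpullQ g' hLg').obj (a.obj K)).property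
    (a'.obj ((Dual3.LpullQ g hLg).obj K)).property b.hom
    (inferInstanceAs (IsIso ((DCoh.IsQCohD (X := X)).ι.map ((DCoh.RpushQ g' hg').map b))))
  haveI : IsIso ((DCoh.IsQCohD (X := X')).ι.map b) := inferInstanceAs (IsIso b.hom)
  exact isIso_of_fully_faithful (DCoh.IsQCohD (X := X')).ι b

end Square

end Groth.Agent.DualFMLib
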