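import Groth.Agent.DerBCLib.Derived

/-!
# Coherence of the identifications of composite direct images
-/

set_option autoImplicit false
set_option linter.style.haveILetI false
set_option linter.unusedSectionVars false
set_option backward.isDefEq.respectTransparency false
set_option backward.isDefEq.respectTransparency.types false
set_option maxHeartbeats 1000000

universe u

open CategoryTheory CategoryTheory.Limits AlgebraicGeometry HomologicalComplex Opposite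
open Groth.Agent Groth.Agent.DerLib Groth.Agent.PerfDualLib Groth.Agent.ProjFormLib
open DCohRestrLib (pushUnit)
open DerBCLib

attribute [local instance] HasDerivedCategory.standard

namespace Groth.Agent.DualFMLib

variable {V A B A' B' S : Scheme.{u}}

/-- The unit of a triple direct image. -/
noncomputable def u3 (a : V ⟶ A) (b : A ⟶ B) (c : B ⟶ S) [DCoh.HasRpush a] [DCoh.HasRpush b]
    [DCoh.HasRpush c] (K : HomotopyCategory V.Modules (ComplexShape.up ℤ)) :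
    DerivedCategory.Qh.obj ((pushH c).obj ((pushH b).obj ((pushH a).obj K))) ⟶
      (DCoh.Rpush c).obj ((DCoh.Rpush b).obj ((DCoh.Rpush a).obj (DerivedCategory.Qh.obj K))) :=
  (unit₁ c b).app ((pushH a).obj K) ≫ (DCoh.Rpush c).map ((DCoh.Rpush b).map ((pushUnit a).app K))

theorem isIso_u3 (a : V ⟶ A) (b : A ⟶ B) (c : B ⟶ S) [DCoh.HasRpush a] [DCoh.HasRpush b]
    [DCoh.HasRpush c] (I : Cx V) [I.IsKInjective] : IsIso (u3 a b c ((qH V).obj I)) := by
  haveI : IsIso ((pushUnit a).app ((qH V).obj I)) := DCohRestrLib.isIso_pushUnit a I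
  haveI : IsIso ((pushUnit b).app ((pushH a).obj ((qH V).obj I))) :=
    isIso_pushUnit_wi b ((wi_of_isKInjective I).push a)
  haveI : IsIso ((pushUnit c).app ((pushH b).obj ((pushH a).obj ((qH V).obj I)))) :=
    isIso_pushUnit_wi c (((wi_of_isKInjective I).push a).push b)
  change IsIso (((pushUnit c).app _ ≫ (DCoh.Rpush c).map ((pushUnit b).app _)) ≫ _)
  infer_instance

/-- Exchanging the last two maps. -/
theorem u3_sq_right {a : V ⟶ A} {b : A ⟶ B} {c : B ⟶ S} {b' : A ⟶ B'} {c' : B' ⟶ S}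
    [DCoh.HasRpush a] [DCoh.HasRpush b] [DCoh.HasRpush c] [DCoh.HasRpush b'] [DCoh.HasRpush c']
    (w : b ≫ c = b' ≫ c') (K : HomotopyCategory V.Modules (ComplexShape.up ℤ)) :
    u3 a b c K ≫ (rpushSqIso w).hom.app ((DCoh.Rpush a).obj (DerivedCategory.Qh.obj K)) =
      DerivedCategory.Qh.map ((sqH w).app ((pushH a).obj K)) ≫ u3 a b' c' K := by
  have h := (rpushSqIso w).hom.naturality ((pushUnit a).app K)
  simp only [Functor.comp_map] at h
  simp only [u3, Category.assoc]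
  refine (congrArg ((unit₁ c b).app ((pushH a).obj K) ≫ ·) h).trans ?_
  refine (reassoc_of% (rpushSqIso_fac w ((pushH a).obj K))) _ |>.trans ?_
  exact Category.assoc _ _ _

/-- Exchanging the first two maps. -/
theorem u3_sq_left {a : V ⟶ A} {b : A ⟶ B} {c : B ⟶ S} {a' : V ⟶ A'} {b' : A' ⟶ B}
    [DCoh.HasRpush a] [DCoh.HasRpush b] [DCoh.HasRpush c] [DCoh.HasRpush a'] [DCoh.HasRpush b']
    (w : a ≫ b = a' ≫ b') (K : HomotopyCategory V.Modules (ComplexShape.up ℤ)) :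
    u3 a b c K ≫ (DCoh.Rpush c).map ((rpushSqIso w).hom.app (DerivedCategory.Qh.obj K)) =
      DerivedCategory.Qh.map ((pushH c).map ((sqH w).app K)) ≫ u3 a' b' c K := by
  have h := rpushSqIso_fac w K
  simp only [unit₁, unit₂] at h
  simp only [u3, unit₁, Category.assoc, ← Functor.map_comp] at h ⊢
  rw [h]
  have h2 := (pushUnit c).naturality ((sqH w).app K)
  simp only [Functor.comp_map] at h2
  simp only [Functor.map_comp] at h2 ⊢
  exact (reassoc_of% h2) _ |>.symm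

variable {P' Q' Pa Qa : Scheme.{u}}

/-- The hexagon: two ways of exchanging a triple composite agree. -/
theorem rpush_hexagon {a₁ : V ⟶ A} {b₁ : A ⟶ B} {c₁ : B ⟶ S}
    {b₂ : A ⟶ P'} {c₂ : P' ⟶ S} {a₃ : V ⟶ Q'} {b₃ : Q' ⟶ P'} 
    {a₅ : V ⟶ Pa} {b₅ : Pa ⟶ B} {b₆ : Pa ⟶ Qa} {c₆ : Qa ⟶ S} {b₇ : Q' ⟶ Qa}
    [DCoh.HasRpush a₁] [DCoh.HasRpush b₁] [DCoh.HasRpush c₁] [DCoh.HasRpush b₂] [DCoh.HasRpush c₂]
    [DCoh.HasRpush a₃] [DCoh.HasRpush b₃] [DCoh.HasRpush a₅]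
    [DCoh.HasRpush b₅] [DCoh.HasRpush b₆] [DCoh.HasRpush c₆] [DCoh.HasRpush b₇]
    (w₁ : b₁ ≫ c₁ = b₂ ≫ c₂) (w₂ : a₁ ≫ b₂ = a₃ ≫ b₃) (w₃ : b₃ ≫ c₂ = b₇ ≫ c₆)
    (v₁ : a₁ ≫ b₁ = a₅ ≫ b₅) (v₂ : b₅ ≫ c₁ = b₆ ≫ c₆) (v₃ : a₅ ≫ b₆ = a₃ ≫ b₇) (M : DCoh.D V) :
    (rpushSqIso w₁).hom.app ((DCoh.Rpush a₁).obj M) ≫
      (DCoh.Rpush c₂).map ((rpushSqIso w₂).hom.app M) ≫
        (rpushSqIso w₃).hom.app ((DCoh.Rpush a₃).obj M) =
    (DCoh.Rpush c₁).map ((rpushSqIso v₁).hom.app M) ≫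
      (rpushSqIso v₂).hom.app ((DCoh.Rpush a₅).obj M) ≫
        (DCoh.Rpush c₆).map ((rpushSqIso v₃).hom.app M) := by
  let τ : DCoh.Rpush a₁ ⋙ DCoh.Rpush b₁ ⋙ DCoh.Rpush c₁ ⟶ DCoh.Rpush a₃ ⋙ DCoh.Rpush b₇ ⋙ DCoh.Rpush c₆ :=
    Functor.whiskerLeft (DCoh.Rpush a₁) (rpushSqIso w₁).hom ≫
      Functor.whiskerRight (rpushSqIso w₂).hom (DCoh.Rpush c₂) ≫
        Functor.whiskerLeft (DCoh.Rpush a₃) (rpushSqIso w₃).hom
  let σ : DCoh.Rpush a₁ ⋙ DCoh.Rpush b₁ ⋙ DCoh.Rpush c₁ ⟶ DCoh.Rpush a₃ ⋙ DCoh.Rpush b₇ ⋙ DCoh.Rpush c₆ :=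
    Functor.whiskerRight (rpushSqIso v₁).hom (DCoh.Rpush c₁) ≫
      Functor.whiskerLeft (DCoh.Rpush a₅) (rpushSqIso v₂).hom ≫
        Functor.whiskerRight (rpushSqIso v₃).hom (DCoh.Rpush c₆)
  change τ.app M = σ.app M
  obtain ⟨I, hI, ⟨e⟩⟩ := KInjDerived.essSurj_kInjective KFlatLib.enoughKInj_modules M
  haveI := hI
  haveI := isIso_u3 a₁ b₁ c₁ I
  have key : τ.app (DerivedCategory.Qh.obj ((qH V).obj I)) = σ.app (DerivedCategory.Qh.obj ((qH V).obj I)) := by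
    rw [← cancel_epi (u3 a₁ b₁ c₁ ((qH V).obj I))]
    simp only [τ, σ, NatTrans.comp_app, Functor.whiskerLeft_app, Functor.whiskerRight_app]
    rw [reassoc_of% (u3_sq_right w₁ ((qH V).obj I)), reassoc_of% (u3_sq_left w₂ ((qH V).obj I)),
      u3_sq_right w₃ ((qH V).obj I), reassoc_of% (u3_sq_left v₁ ((qH V).obj I)),
      reassoc_of% (u3_sq_right v₂ ((qH V).obj I)), u3_sq_left v₃ ((qH V).obj I)]
    simp only [← Category.assoc, ← Functor.map_comp]
    refine congrArg (DerivedCategory.Qh.map · ≫ _) ?_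
    change ((qH S).map (sqMap w₁ _) ≫ (qH S).map ((pushC c₂).map (sqMap w₂ I))) ≫ (qH S).map (sqMap w₃ _) =
      ((qH S).map ((pushC c₁).map (sqMap v₁ I)) ≫ (qH S).map (sqMap v₂ _)) ≫
        (qH S).map ((pushC c₆).map (sqMap v₃ I))
    simp only [← Functor.map_comp]
    refine congrArg (qH S).map (HomologicalComplex.hom_ext _ _ fun n => ?_)
    refine Scheme.Modules.hom_ext _ _ fun U => ConcreteCategory.hom_ext _ _ fun m => ?_
    change ((pushSq w₃).hom.app ((Scheme.Modules.pushforward a₃).obj (I.X n))).app U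
        (((pushSq w₂).hom.app (I.X n)).app (c₂ ⁻¹ᵁ U)
          (((pushSq w₁).hom.app ((Scheme.Modules.pushforward a₁).obj (I.X n))).app U m)) =
      ((pushSq v₃).hom.app (I.X n)).app (c₆ ⁻¹ᵁ U)
        (((pushSq v₂).hom.app ((Scheme.Modules.pushforward a₅).obj (I.X n))).app U
          (((pushSq v₁).hom.app (I.X n)).app (c₁ ⁻¹ᵁ U) m))
    rw [pushSq_hom_app_app, pushSq_hom_app_app, pushSq_hom_app_app, pushSq_hom_app_app, pushSq_hom_app_app,
      pushSq_hom_app_app]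
    change (I.X n).presheaf.map _ ((I.X n).presheaf.map _ ((I.X n).presheaf.map _ m)) =
      (I.X n).presheaf.map _ ((I.X n).presheaf.map _ ((I.X n).presheaf.map _ m))
    simp only [← ConcreteCategory.comp_apply, ← Functor.map_comp]
    exact congrArg (fun k => (I.X n).presheaf.map k m) (Subsingleton.elim _ _)
  have h1 := τ.naturality e.inv
  have h2 := σ.naturality e.inv
  rw [← cancel_mono ((DCoh.Rpush a₃ ⋙ DCoh.Rpush b₇ ⋙ DCoh.Rpush c₆).map e.inv), ← h1, ← h2]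
  exact congrArg (_ ≫ ·) key

end Groth.Agent.DualFMLib
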