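import Groth.Agent.DualFMLib.FlatHom.Apply
import Groth.Agent.DualFMLib.FlatHom.Paste
import Groth.Agent.DualFMLib.FlatHom.Cube
import Groth.Agent.Dual3Lib.BCOpen
import Groth.Agent.Dual3Lib.PerfPush
import Groth.Agent.KoszOrthLib.DQCohPush
import Groth.Agent.S1513

/-!
# Flat base change of the right adjoint for perfect proper morphisms
-/

set_option autoImplicit false
set_option linter.style.haveILetI false
set_option linter.unusedSectionVars false
set_option backward.isDefEq.respectTransparency false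
set_option backward.isDefEq.respectTransparency.types false
set_option maxHeartbeats 1000000
set_option synthInstance.maxHeartbeats 200000

universe u

open CategoryTheory CategoryTheory.Limits AlgebraicGeometry CategoryTheory.Pretriangulated

attribute [local instance] HasDerivedCategory.standard

namespace Groth.Agent.DualFMLib

/-- Derived inverse image along an open immersion is restriction. -/
noncomputable def lpullRestrIso {X U : Scheme.{u}} (j : U ⟶ X) [IsOpenImmersion j] [DCoh.HasLpull j]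
    [DCoh.HasRpush j] : DCoh.Lpull j ≅ DCoh.restrictD j :=
  Adjunction.leftAdjointUniq (KFlatLib.lpullRpushAdj j) (KoszOrthLib.restrictRpushAdj j)

/-- The counit of an adjunction with `Rj_*` for an open immersion is invertible. -/
theorem isIso_counit_open {X U : Scheme.{u}} (j : U ⟶ X) [IsOpenImmersion j] [DCoh.HasRpush j]
    {hj : DCoh.RpushPreservesQCoh j} {L : DCoh.DQCoh X ⥤ DCoh.DQCoh U}
    (adj : L ⊣ DCoh.RpushQ j hj) : IsIso adj.counit := by
  haveI := KoszOrthLib.isIso_counit j (KoszOrthLib.restrictRpushAdj j)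
  haveI : (DCoh.Rpush j).Full := (KoszOrthLib.restrictRpushAdj j).fullyFaithfulROfIsIsoCounit.full
  haveI : (DCoh.Rpush j).Faithful := (KoszOrthLib.restrictRpushAdj j).fullyFaithfulROfIsIsoCounit.faithful
  haveI : (DCoh.RpushQ j hj).Faithful :=
    ⟨fun h => ObjectProperty.hom_ext _ ((DCoh.Rpush j).map_injective (congrArg (fun q => q.hom) h))⟩
  haveI : (DCoh.RpushQ j hj).Full := ⟨fun {A B} φ => by
    obtain ⟨ψ, hψ⟩ := (DCoh.Rpush j).map_surjective (X := A.obj) (Y := B.obj) φ.hom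
    exact ⟨ObjectProperty.homMk ψ, ObjectProperty.hom_ext _ hψ⟩⟩
  infer_instance

/-- A map of `DQCoh` is invertible if it is so on an open cover. -/
theorem isIso_of_cover_restrict {X : Scheme.{u}} {E F : DCoh.DQCoh X} (φ : E ⟶ F)
    (h : ∀ x : X, ∃ U : X.Opens, x ∈ U ∧ IsIso ((DCoh.restrictD U.ι).map φ.hom)) : IsIso φ := by
  haveI : IsIso φ.hom := by
    rw [DerivedCategory.isIso_iff]
    intro i
    refine KFlatLib.isIso_of_stalks _ fun x => ?_
    obtain ⟨U, hx, hU⟩ := h x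
    haveI := hU
    haveI := DCohRestrLib.isIso_restrict_HD U.ι φ.hom i
    exact DCohRestrLib.isIso_stalk_of_restrict U.ι
      ((DerivedCategory.homologyFunctor X.Modules i).map φ.hom) ⟨x, hx⟩
  haveI : IsIso ((DCoh.IsQCohD (X := X)).ι.map φ) := inferInstanceAs (IsIso φ.hom)
  exact isIso_of_fully_faithful (DCoh.IsQCohD (X := X)).ι φ

section Open

variable {X Y : Scheme.{u}} [IsNoetherian Y] (f : X ⟶ Y) [IsProper f] [DCoh.HasRpush f]
  (hf : DCoh.RpushPreservesQCoh f) (a : DCoh.DQCoh Y ⥤ DCoh.DQCoh X) (adj : DCoh.RpushQ f hf ⊣ a)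
  (hperf : MoreMor.IsPerfectMor f) (U : Y.Opens)
  [DCoh.HasRpush U.ι] [DCoh.HasRpush (f ⁻¹ᵁ U).ι] [DCoh.HasLpull U.ι] [DCoh.HasLpull (f ⁻¹ᵁ U).ι]
  [DCoh.HasRpush (f ∣_ U)] (hj : DCoh.RpushPreservesQCoh U.ι)
  (hjX : DCoh.RpushPreservesQCoh (f ⁻¹ᵁ U).ι) (hfU : DCoh.RpushPreservesQCoh (f ∣_ U))
  {aU : DCoh.DQCoh (U : Scheme.{u}) ⥤ DCoh.DQCoh (f ⁻¹ᵁ U : Scheme.{u})}
  (adjU : DCoh.RpushQ (f ∣_ U) hfU ⊣ aU)
  {hLj : Dual3.LpullPreservesQCoh U.ι} {hLjX : Dual3.LpullPreservesQCoh (f ⁻¹ᵁ U).ι}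
  (adjj : Dual3.LpullQ U.ι hLj ⊣ DCoh.RpushQ U.ι hj)
  (adjjX : Dual3.LpullQ (f ⁻¹ᵁ U).ι hLjX ⊣ DCoh.RpushQ (f ⁻¹ᵁ U).ι hjX)

include adj hperf in
/-- Base change along an open immersion. -/
theorem isIso_bcAbs_open (K : DCoh.DQCoh Y)
    [IsIso (xiAbs adj adjU (sqQ (isPullback_morphismRestrict f U).flip.w hf hfU hj hjX)
      ((Dual3.LpullQ U.ι hLj).obj K))] :
    IsIso (bcAbs adj adjU (sqQ (isPullback_morphismRestrict f U).flip.w hf hfU hj hjX) adjj adjjX K) := by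
  haveI : IsLocallyNoetherian X := LocallyOfFiniteType.isLocallyNoetherian f
  haveI : CompactSpace X := QuasiCompact.compactSpace_of_compactSpace f
  haveI : IsNoetherian X := ⟨⟩
  haveI := isIso_counit_open U.ι adjj
  haveI := isIso_counit_open (f ⁻¹ᵁ U).ι adjjX
  refine isIso_bcAbs_of_reflection adj adjU _ adjj adjjX
    (fun M => isIso_xi_sqQ (isPullback_morphismRestrict f U).flip adj adjU adjj adjjX M)
    (fun T => isIso_bcPush adjj adjjX (isPullback_morphismRestrict f U).flip T) K ?_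
  obtain ⟨_, _⟩ := QRlimLib.exists_isTriangulated_rpush f
  haveI : (DCoh.RpushQ f hf).IsTriangulated :=
    ObjectProperty.isTriangulated_lift _ ((DCoh.IsQCohD (X := X)).ι ⋙ DCoh.Rpush f) _
  letI := adj.rightAdjointCommShift ℤ
  haveI := adj.commShift_of_leftAdjoint ℤ
  haveI : a.IsTriangulated := adj.isTriangulated_rightAdjoint
  obtain ⟨C, p, d, hT⟩ := distinguished_cocone_triangle (adjj.unit.app K)
  let rU := DCoh.restrictD U.ι
  let rX := DCoh.restrictD (f ⁻¹ᵁ U).ι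
  haveI : IsIso ((Dual3.LpullQ U.ι hLj).map (adjj.unit.app K)) := by
    have h := adjj.left_triangle_components K
    haveI : IsIso ((Dual3.LpullQ U.ι hLj).map (adjj.unit.app K) ≫
        adjj.counit.app ((Dual3.LpullQ U.ι hLj).obj K)) := by rw [h]; exact IsIso.id _
    exact IsIso.of_isIso_comp_right _ (adjj.counit.app ((Dual3.LpullQ U.ι hLj).obj K))
  have h1 : IsIso (rU.map (adjj.unit.app K).hom) :=
    (NatIso.isIso_map_iff (lpullRestrIso U.ι) _).1
      (inferInstanceAs (IsIso ((DCoh.IsQCohD (X := (U : Scheme.{u}))).ι.map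
        ((Dual3.LpullQ U.ι hLj).map (adjj.unit.app K)))))
  have hCU : IsZero (rU.obj C.obj) :=
    ((rU.mapTriangle.obj ((DCoh.IsQCohD (X := Y)).ι.mapTriangle.obj (Triangle.mk _ p d))).isZero₃_iff_isIso₁
      (rU.map_distinguished _ ((DCoh.IsQCohD (X := Y)).ι.map_distinguished _ hT))).2 h1
  have haC : IsZero (rX.obj (a.obj C).obj) := (Dual3Lib.isZero_restrictD_iff_restrict _ _).2
    (Dual3Lib.isZero_restrict_rightAdjoint f hf a adj C
      (Dual3Lib.rHomQCoh_of_perfect f C fun G hG => Dual3Lib.isPerfect_rpush_of_perfectMor f hperf hG) U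
      ((Dual3Lib.isZero_restrictD_iff_restrict _ _).1 hCU))
  have hη : IsIso (rX.map (a.map (adjj.unit.app K)).hom) :=
    ((rX.mapTriangle.obj ((DCoh.IsQCohD (X := X)).ι.mapTriangle.obj (a.mapTriangle.obj (Triangle.mk _ p d)))).isZero₃_iff_isIso₁
      (rX.map_distinguished _ ((DCoh.IsQCohD (X := X)).ι.map_distinguished _
        (a.map_distinguished _ hT)))).1 haC
  haveI : IsIso ((DCoh.IsQCohD (X := (f ⁻¹ᵁ U : Scheme.{u}))).ι.map
      ((Dual3.LpullQ (f ⁻¹ᵁ U).ι hLjX).map (a.map (adjj.unit.app K)))) :=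
    (NatIso.isIso_map_iff (lpullRestrIso (f ⁻¹ᵁ U).ι) _).2 hη
  exact isIso_of_fully_faithful (DCoh.IsQCohD (X := (f ⁻¹ᵁ U : Scheme.{u}))).ι _

end Open

variable {X Y X' Y' : Scheme.{u}} {f : X ⟶ Y} {g : Y' ⟶ Y} {f' : X' ⟶ Y'} {g' : X' ⟶ X}

/-- Flat base change of the right adjoint for a perfect proper morphism. -/
theorem isIso_bcMap_perfect [IsNoetherian Y] [IsNoetherian Y'] (hsq : IsPullback g' f' f g) [IsProper f]
    (hperf : MoreMor.IsPerfectMor f) [Flat g] [DCoh.HasRpush f] [DCoh.HasRpush f'] [DCoh.HasRpush g]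
    [DCoh.HasRpush g'] [DCoh.HasLpull g] [DCoh.HasLpull g']
    {hf : DCoh.RpushPreservesQCoh f} {hf' : DCoh.RpushPreservesQCoh f'}
    {hg : DCoh.RpushPreservesQCoh g} {hg' : DCoh.RpushPreservesQCoh g'}
    {hLg : Dual3.LpullPreservesQCoh g} {hLg' : Dual3.LpullPreservesQCoh g'}
    {a : DCoh.DQCoh Y ⥤ DCoh.DQCoh X} {a' : DCoh.DQCoh Y' ⥤ DCoh.DQCoh X'}
    (adj : DCoh.RpushQ f hf ⊣ a) (adj' : DCoh.RpushQ f' hf' ⊣ a')
    (adjg : Dual3.LpullQ g hLg ⊣ DCoh.RpushQ g hg) (adjg' : Dual3.LpullQ g' hLg' ⊣ DCoh.RpushQ g' hg')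
    (K : DCoh.DQCoh Y)
    (hξ : IsIso (Dual3.xi adj adj' (sqQ hsq.w hf hf' hg hg') ((Dual3.LpullQ g hLg).obj K))) :
    IsIso (Dual3.bcMap adj adj' (sqQ hsq.w hf hf' hg hg') adjg adjg' K hξ) := by
  haveI : IsLocallyNoetherian X := LocallyOfFiniteType.isLocallyNoetherian f
  haveI : CompactSpace X := QuasiCompact.compactSpace_of_compactSpace f
  haveI : IsNoetherian X := ⟨⟩
  haveI : IsProper f' := MorphismProperty.of_isPullback (P := @IsProper) hsq inferInstance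
  haveI : IsLocallyNoetherian X' := LocallyOfFiniteType.isLocallyNoetherian f'
  haveI : CompactSpace X' := QuasiCompact.compactSpace_of_compactSpace f'
  haveI : IsNoetherian X' := ⟨⟩
  have hperf' : MoreMor.IsPerfectMor f' := Groth.Agent.S1513.result f f' g' g hsq hperf
  haveI : IsIso (xiAbs adj adj' (sqQ hsq.w hf hf' hg hg') ((Dual3.LpullQ g hLg).obj K)) := hξ
  change IsIso (bcAbs adj adj' (sqQ hsq.w hf hf' hg hg') adjg adjg' K)
  refine isIso_of_cover_restrict _ fun x' => ?_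
  obtain ⟨U, hU, hyU, -⟩ := exists_isAffineOpen_mem_and_subset (x := g (f' x')) (U := (⊤ : Y.Opens)) trivial
  obtain ⟨U', hU', hxU', hle⟩ := exists_isAffineOpen_mem_and_subset (x := f' x') (U := g ⁻¹ᵁ U) hyU
  refine ⟨f' ⁻¹ᵁ U', hxU', ?_⟩
  haveI : IsAffine (U : Scheme.{u}) := hU
  haveI : IsAffine (U' : Scheme.{u}) := hU'
  haveI := fun (Z : Scheme.{u}) (V : Z.Opens) => KFlatLib.hasLpull V.ι
  haveI := fun (Z : Scheme.{u}) (V : Z.Opens) => DCohRestrLib.hasRpush V.ι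
  haveI : IsNoetherian (U : Scheme.{u}) := ⟨⟩
  haveI : IsNoetherian (U' : Scheme.{u}) := ⟨⟩
  haveI : CompactSpace (f ⁻¹ᵁ U : Scheme.{u}) :=
    isCompact_iff_compactSpace.mp (TopologicalSpace.NoetherianSpace.isCompact _)
  haveI : CompactSpace (f' ⁻¹ᵁ U' : Scheme.{u}) :=
    isCompact_iff_compactSpace.mp (TopologicalSpace.NoetherianSpace.isCompact _)
  haveI : QuasiCompact U.ι := quasiCompact_of_compactSpace _
  haveI : QuasiCompact U'.ι := quasiCompact_of_compactSpace _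
  haveI : QuasiCompact (f ⁻¹ᵁ U).ι := quasiCompact_of_compactSpace _
  haveI : QuasiCompact (f' ⁻¹ᵁ U').ι := quasiCompact_of_compactSpace _
  let gU : (U' : Scheme.{u}) ⟶ U := g.resLE U U' hle
  have hleX : f' ⁻¹ᵁ U' ≤ g' ⁻¹ᵁ (f ⁻¹ᵁ U) := fun x hx => by
    have h1 : g (f' x) ∈ U := hle hx
    rwa [← Scheme.Hom.comp_apply, ← hsq.w, Scheme.Hom.comp_apply] at h1
  let gX : (f' ⁻¹ᵁ U' : Scheme.{u}) ⟶ f ⁻¹ᵁ U := g'.resLE (f ⁻¹ᵁ U) (f' ⁻¹ᵁ U') hleX
  let fU := f ∣_ U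
  let f'' := f' ∣_ U'
  have w₃ : gU ≫ U.ι = U'.ι ≫ g := Scheme.Hom.resLE_comp_ι g hle
  have v₁ : gX ≫ (f ⁻¹ᵁ U).ι = (f' ⁻¹ᵁ U').ι ≫ g' := Scheme.Hom.resLE_comp_ι g' hleX
  have w₁ := (isPullback_morphismRestrict f U).flip
  have v₃ := (isPullback_morphismRestrict f' U').flip
  have w₂ : gX ≫ fU = f'' ≫ gU := by
    rw [← cancel_mono U.ι, Category.assoc, Category.assoc, w₃, morphismRestrict_ι, ← Category.assoc, v₁,
      ← reassoc_of% v₃.w]
    simp [hsq.w]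
  have hsqU : IsPullback gX f'' fU gU := by
    refine IsPullback.of_right ?_ w₂ w₁
    rw [v₁, w₃]
    exact v₃.paste_horiz hsq
  haveI : Flat gU := inferInstanceAs (Flat (g.resLE U U' hle))
  haveI := KFlatLib.hasLpull gU
  haveI := KFlatLib.hasLpull gX
  haveI := DCohRestrLib.hasRpush gU
  haveI := DCohRestrLib.hasRpush gX
  haveI := DCohRestrLib.hasRpush fU
  haveI := DCohRestrLib.hasRpush f''
  haveI : IsProper fU := inferInstance
  haveI : IsProper f'' := inferInstance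
  haveI : QuasiCompact gX := quasiCompact_of_compactSpace _
  have hfU : DCoh.RpushPreservesQCoh fU := fun E hE => QRlimLib.isQCohD_rpush fU hE
  have hf'' : DCoh.RpushPreservesQCoh f'' := fun E hE => QRlimLib.isQCohD_rpush f'' hE
  have hj : DCoh.RpushPreservesQCoh U.ι := fun E hE => QRlimLib.isQCohD_rpush _ hE
  have hh : DCoh.RpushPreservesQCoh U'.ι := fun E hE => QRlimLib.isQCohD_rpush _ hE
  have hjX : DCoh.RpushPreservesQCoh (f ⁻¹ᵁ U).ι := fun E hE => QRlimLib.isQCohD_rpush _ hE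
  have hh' : DCoh.RpushPreservesQCoh (f' ⁻¹ᵁ U').ι := fun E hE => QRlimLib.isQCohD_rpush _ hE
  have hgU : DCoh.RpushPreservesQCoh gU := fun E hE => QRlimLib.isQCohD_rpush _ hE
  have hgX : DCoh.RpushPreservesQCoh gX := fun E hE => QRlimLib.isQCohD_rpush _ hE
  have hL : ∀ {A B : Scheme.{u}} (q : A ⟶ B) [DCoh.HasLpull q], Dual3.LpullPreservesQCoh q :=
    fun q _ => KFlatLib.isQCohD_lpull q
  haveI := KoszOrthLib.isLeftAdjoint_rpushQ fU hfU
  haveI := KoszOrthLib.isLeftAdjoint_rpushQ f'' hf''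
  let adjU := Adjunction.ofIsLeftAdjoint (DCoh.RpushQ fU hfU)
  let adj'' := Adjunction.ofIsLeftAdjoint (DCoh.RpushQ f'' hf'')
  let Ag := adjQ (g := gU) (hL gU) hgU
  let AgX := adjQ (g := gX) (hL gX) hgX
  let Aj := adjQ (g := U.ι) (hL _) hj
  let AjX := adjQ (g := (f ⁻¹ᵁ U).ι) (hL _) hjX
  let Ah := adjQ (g := U'.ι) (hL _) hh
  let AhX := adjQ (g := (f' ⁻¹ᵁ U').ι) (hL _) hh'
  let e₁ := sqQ hsq.w hf hf' hg hg'
  let e₂ := sqQ v₃.w hf' hf'' hh hh'
  let ej := sqQ w₁.w hf hfU hj hjX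
  let egU := sqQ hsqU.w hfU hf'' hgU hgX
  haveI : ∀ M, IsIso (xiAbs adj' adj'' e₂ M) := fun M => isIso_xi_sqQ v₃ adj' adj'' Ah AhX M
  haveI : ∀ M, IsIso (xiAbs adj adjU ej M) := fun M => isIso_xi_sqQ w₁ adj adjU Aj AjX M
  haveI : ∀ M, IsIso (xiAbs adjU adj'' egU M) := fun M => isIso_xi_sqQ hsqU adjU adj'' Ag AgX M
  haveI hb₂ := isIso_bcAbs_open f' hf' a' adj' hperf' U' hh hh' hf'' adj'' Ah AhX
    ((Dual3.LpullQ g hLg).obj K)
  haveI hbj := isIso_bcAbs_open f hf a adj hperf U hj hjX hfU adjU Aj AjX K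
  let K₀ := (Dual3.LpullQ U.ι (hL _)).obj K
  haveI hbU : IsIso (bcAbs adjU adj'' egU Ag AgX K₀) := by
    let A := Γ(U, ⊤)
    let A' := Γ(U', ⊤)
    letI : Algebra A A' := gU.appTop.hom.toAlgebra
    haveI : Module.Flat A A' := flat_appTop gU
    letI : (U : Scheme.{u}).Over (Spec (CommRingCat.of A)) := ⟨(U : Scheme.{u}).isoSpec.hom⟩
    letI : (U' : Scheme.{u}).Over (Spec (CommRingCat.of A')) := ⟨(U' : Scheme.{u}).isoSpec.hom⟩
    have hY : IsPullback gU ((U' : Scheme.{u}) ↘ Spec (CommRingCat.of A')) ((U : Scheme.{u}) ↘ Spec (CommRingCat.of A))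
        (Spec.map (CommRingCat.ofHom (algebraMap A A'))) := isPullback_isoSpec gU
    haveI := additive_lpull gU
    obtain ⟨_, _⟩ := exists_isTriangulated_lpull gU
    haveI : IsLocallyNoetherian (f ⁻¹ᵁ U : Scheme.{u}) := LocallyOfFiniteType.isLocallyNoetherian fU
    exact isIso_bcMap_affine Ag AgX hsqU hY adjU adj'' K₀ (fun P hP => by
      refine (bij_perfect hY _ ?_ K₀.obj K₀.property).eta_bijective
      exact Dual3Lib.isPerfect_rpush_of_perfectMor fU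
        (Groth.Agent.S1513.result f fU _ U.ι w₁ hperf) hP) (isIso_xi_sqQ hsqU adjU adj'' Ag AgX _)
  let ρ := sqQ (f := U.ι) (g' := gU) (f' := U'.ι) (g := g) w₃ hj hh hg hgU
  let ρ' := sqQ (f := (f ⁻¹ᵁ U).ι) (g' := gX) (f' := (f' ⁻¹ᵁ U').ι) (g := g') v₁ hjX hh' hg' hgX
  have hhex : ∀ M, (DCoh.RpushQ f hf).map (ρ'.hom.app M) ≫ (ePaste e₁ e₂).hom.app M =
      (ePaste ej egU).hom.app M ≫ ρ.hom.app ((DCoh.RpushQ f'' hf'').obj M) := fun M => by
    rw [ePaste_app, ePaste_app, Category.assoc]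
    exact ObjectProperty.hom_ext _ (rpush_hexagon w₁.w hsqU.w w₃ v₁ hsq.w v₃.w M.obj).symm
  haveI : ∀ T, IsIso (betaAbs e₁ adjg adjg' T) := fun T => isIso_bcPush adjg adjg' hsq T
  haveI : ∀ T, IsIso (betaAbs e₂ Ah AhX T) := fun T => isIso_bcPush Ah AhX v₃ T
  haveI : IsIso (betaAbs (ePaste e₁ e₂) (adjg.comp Ah) (adjg'.comp AhX) (a.obj K)) := by
    rw [betaAbs_paste]
    infer_instance
  have hiff := isIso_iff_of_change adj adj'' (adjg.comp Ah) (Aj.comp Ag) ρ (adjg'.comp AhX) (AjX.comp AgX) ρ'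
    (ePaste e₁ e₂) (ePaste ej egU) hhex K _
    (betaAbs_bcAbs_paste adj adj' e₁ adjg adjg' adj'' e₂ Ah AhX K) _
    (betaAbs_bcAbs_paste adj adjU ej Aj AjX adj'' egU Ag AgX K)
  have hz : IsIso ((Dual3.LpullQ (f' ⁻¹ᵁ U').ι (hL _)).map (bcAbs adj adj' e₁ adjg adjg' K) ≫
      bcAbs adj' adj'' e₂ Ah AhX ((Dual3.LpullQ g hLg).obj K)) := hiff.2 inferInstance
  haveI hH : IsIso ((Dual3.LpullQ (f' ⁻¹ᵁ U').ι (hL _)).map (bcAbs adj adj' e₁ adjg adjg' K)) :=
    IsIso.of_isIso_comp_right _ (bcAbs adj' adj'' e₂ Ah AhX ((Dual3.LpullQ g hLg).obj K))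
  exact (NatIso.isIso_map_iff (lpullRestrIso (f' ⁻¹ᵁ U').ι) _).1
    (inferInstanceAs (IsIso ((DCoh.IsQCohD (X := (f' ⁻¹ᵁ U' : Scheme.{u}))).ι.map
      ((Dual3.LpullQ (f' ⁻¹ᵁ U').ι (hL _)).map (bcAbs adj adj' e₁ adjg adjg' K)))))

end Groth.Agent.DualFMLib
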