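import Groth.Agent.DualFMLib.FlatHom.Base
import Groth.Agent.Dual3Lib.RightAdjTensorIso
import Groth.Agent.Dual3Lib.Transform
import Groth.Agent.Dual3Lib.PointChain
import Groth.Agent.DCohRestrLib.MV
import Groth.Agent.KFlatLib.QCohDev
import Groth.Agent.DerBCLib.Main
import Groth.Agent.S0015

/-!
# Flat base change of maps out of perfect complexes
-/

set_option autoImplicit false
set_option linter.style.haveILetI false
set_option linter.unusedSectionVars false
set_option backward.isDefEq.respectTransparency false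
set_option backward.isDefEq.respectTransparency.types false
set_option maxHeartbeats 1000000
set_option synthInstance.maxHeartbeats 200000

universe u

open CategoryTheory CategoryTheory.Limits AlgebraicGeometry CategoryTheory.Pretriangulated
open scoped TensorProduct

attribute [local instance] HasDerivedCategory.standard

namespace Groth.Agent.DualFMLib

section Push

variable {A A' : Type u} [CommRing A] [CommRing A'] [Algebra A A'] {X X' V V' : Scheme.{u}}
  [X.Over (Spec (CommRingCat.of A))] [X'.Over (Spec (CommRingCat.of A'))]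
  [V.Over (Spec (CommRingCat.of A))] [V'.Over (Spec (CommRingCat.of A'))]
  {f : V ⟶ X} {g : X' ⟶ X} {f' : V' ⟶ X'} {g' : V' ⟶ V} (H : IsPullback g' f' f g)
  [f.IsOver (Spec (CommRingCat.of A))] [f'.IsOver (Spec (CommRingCat.of A'))]
  [QuasiCompact f] [QuasiSeparated f] [Flat g]
  (hg : g ≫ (X ↘ Spec (CommRingCat.of A)) =
      (X' ↘ Spec (CommRingCat.of A')) ≫ Spec.map (CommRingCat.ofHom (algebraMap A A')))
  (hg' : g' ≫ (V ↘ Spec (CommRingCat.of A)) =
      (V' ↘ Spec (CommRingCat.of A')) ≫ Spec.map (CommRingCat.ofHom (algebraMap A A')))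
  [DCoh.HasLpull g] [DCoh.HasLpull g'] [DCoh.HasLpull f] [DCoh.HasRpush f]
  [(DCoh.Lpull g).Additive] [(DCoh.Lpull g').Additive]

include H in
/-- Maps into a direct image. -/
theorem bijective_eta_rpush (P : DCoh.D X) (W : DCoh.D V) (hW : DCoh.IsQCohD W) :
    Function.Bijective (eta (semiLin_lpull g hg) P ((DCoh.Rpush f).obj W)) ↔
      Function.Bijective (eta (semiLin_lpull g' hg') ((DCoh.Lpull f).obj P) W) := by
  haveI := KFlatLib.hasLpull f'
  haveI := DCohRestrLib.hasRpush f'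
  haveI := DCohRestrLib.hasRpush g
  haveI := DCohRestrLib.hasRpush g'
  haveI := additive_lpull f
  haveI := additive_lpull f'
  let e := DerBCLib.rpushSqIso (f := f) (g := g) (f' := f') (g' := g') H.w
  obtain ⟨c, hc⟩ := exists_mate (KFlatLib.lpullRpushAdj g) (KFlatLib.lpullRpushAdj f)
    (KFlatLib.lpullRpushAdj g') (KFlatLib.lpullRpushAdj f') e
  refine bijective_eta_adj (semiLin_lpull g hg) (semiLin_lpull g' hg') (KFlatLib.lpullRpushAdj f)
    (semiLin_lpull_self f) (KFlatLib.lpullRpushAdj f') (semiLin_lpull_self f') c P W ?_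
  rw [hc W]
  exact DerBCLib.isIso_baseChangeApp H (KFlatLib.lpullRpushAdj g) (KFlatLib.lpullRpushAdj g')
    (fun T hT hTq => DerBCLib.hasLocModel_flat hT hTq) W hW

variable [(DCoh.Lpull g).CommShift ℤ] [(DCoh.Lpull g').CommShift ℤ]

include H in
/-- Maps into shifts of a direct image. -/
theorem bij_rpush (P : DCoh.D X) (W : DCoh.D V) (hW : DCoh.IsQCohD W)
    (h : Bij (semiLin_lpull g' hg') ((DCoh.Lpull f).obj P) W) :
    Bij (semiLin_lpull g hg) P ((DCoh.Rpush f).obj W) := fun n => by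
  obtain ⟨_, _⟩ := QRlimLib.exists_isTriangulated_rpush f
  exact bijective_eta_congr _ (Iso.refl _) (((DCoh.Rpush f).commShiftIso n).app W)
    ((bijective_eta_rpush H hg hg' P (W⟦n⟧) (KFlatLib.isQCohD_shift hW n)).2 (h n))

end Push

/-- On an affine scheme the perfect complexes are generated by `O`. -/
theorem prop_of_isPerfect_affine {V : Scheme.{u}} [IsAffine V] (Q : ObjectProperty (DCoh.D V))
    [Q.IsTriangulated] [Q.IsClosedUnderIsomorphisms] [Q.IsStableUnderRetracts]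
    (hQ : Q (DCoh.inD V (Coh.structureModule V))) {P : DCoh.D V} (hP : DCoh.IsPerfect P) : Q P := by
  haveI := KoszOrthLib.hasCoproducts_D V
  refine KoszOrthLib.prop_of_generator (P := fun L : DCoh.D V => DCoh.IsQCohD L)
    (fun ι L hL => KFlatLib.isQCohD_coproduct L hL) (fun L n hL => KFlatLib.isQCohD_shift hL n)
    (fun T hT h1 h2 => ObjectProperty.ext_of_isTriangulatedClosed₃ (DCoh.IsQCohD (X := V)) T hT h1 h2)
    (Dual3Lib.unitQ V).property
    (fun ι L hL => KoszOrthLib.finFac_of_isQCohD (KoszOrthLib.isPerfect_inD_unit V) L hL)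
    (fun n L _ => inferInstance) (fun L hL h => ?_) Q hQ
    (KoszOrthLib.isQCohD_of_isPerfect hP) fun ι L hL => KoszOrthLib.finFac_of_isQCohD hP L hL
  let ι := (DCoh.IsQCohD (X := V)).ι
  refine ι.map_isZero (X := ⟨L, hL⟩) (Dual3Lib.isZero_of_forall_hom_unitQ ⟨L, hL⟩ fun _ n φ => ?_)
  apply ι.map_injective
  rw [Functor.map_zero]
  let O := DCoh.inD V (Coh.structureModule V)
  let ψ : O ⟶ L⟦n⟧ := ι.map φ ≫ (ι.commShiftIso n).hom.app ⟨L, hL⟩
  have hψ : ψ = 0 := by
    let c := shiftFunctorCompIsoId (DCoh.D V) n (-n) (by omega)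
    have h0 : (shiftFunctor (DCoh.D V) (-n)).map ψ ≫ c.hom.app L = 0 := h (-n) _
    exact (shiftFunctor (DCoh.D V) (-n)).map_injective
      ((zero_of_comp_mono (c.hom.app L) h0).trans (Functor.map_zero _ _ _).symm)
  exact zero_of_comp_mono _ hψ

section Main

variable {A A' : Type u} [CommRing A] [CommRing A'] [Algebra A A'] [Module.Flat A A']

theorem flat_specMap : Flat (Spec.map (CommRingCat.ofHom (algebraMap A A'))) := by
  rw [HasRingHomProperty.Spec_iff (P := @Flat)]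
  exact RingHom.flat_algebraMap_iff.2 inferInstance

variable {X X' : Scheme.{u}} [X.Over (Spec (CommRingCat.of A))] [X'.Over (Spec (CommRingCat.of A'))]
  {g : X' ⟶ X} (hX : IsPullback g (X' ↘ Spec (CommRingCat.of A')) (X ↘ Spec (CommRingCat.of A))
    (Spec.map (CommRingCat.ofHom (algebraMap A A'))))
  [DCoh.HasLpull g] [(DCoh.Lpull g).CommShift ℤ] [(DCoh.Lpull g).IsTriangulated]

include hX in
theorem flat_of_square : Flat g :=
  MorphismProperty.of_isPullback (P := @Flat) hX.flip flat_specMap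

/-- Good opens: targets pushed from them are good for `P`. -/
def Good (P : DCoh.D X) (U : X.Opens) : Prop :=
  ∀ (V : Scheme.{u}) (j : V ⟶ X) [IsOpenImmersion j] [DCoh.HasRpush j], j.opensRange = U →
    ∀ W : DCoh.D V, DCoh.IsQCohD W → Bij (semiLin_lpull g hX.w) P ((DCoh.Rpush j).obj W)

/-- The affine case, for a source perfect complex. -/
theorem good_affine [CompactSpace X] [QuasiSeparatedSpace X] (P : DCoh.D X) (hP : DCoh.IsPerfect P)
    (U : X.Opens) (hU : IsAffineOpen U) : Good hX P U := by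
  intro V j _ _ hr W hW
  haveI : IsAffine V := by
    haveI : IsAffine (j.opensRange : Scheme.{u}) := by rw [hr]; exact hU
    exact .of_isIso j.isoOpensRange.hom
  haveI := flat_of_square hX
  haveI : QuasiCompact j := quasiCompact_of_compactSpace j
  let V' := pullback g j
  letI : V.Over (Spec (CommRingCat.of A)) := ⟨j ≫ X ↘ Spec (CommRingCat.of A)⟩
  letI : V'.Over (Spec (CommRingCat.of A')) := ⟨pullback.fst g j ≫ X' ↘ Spec (CommRingCat.of A')⟩
  haveI : j.IsOver (Spec (CommRingCat.of A)) := ⟨rfl⟩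
  haveI : (pullback.fst g j).IsOver (Spec (CommRingCat.of A')) := ⟨rfl⟩
  have H : IsPullback (pullback.snd g j) (pullback.fst g j) j g := (IsPullback.of_hasPullback g j).flip
  haveI := KFlatLib.hasLpull j
  haveI := KFlatLib.hasLpull (pullback.snd g j)
  haveI := additive_lpull (pullback.snd g j)
  obtain ⟨_, _⟩ := exists_isTriangulated_lpull (pullback.snd g j)
  have HV := H.paste_vert hX
  refine bij_rpush H hX.w HV.w P W hW ?_
  let G' := semiLin_lpull (pullback.snd g j) HV.w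
  suffices hO : Bij G' (DCoh.inD V (Coh.structureModule V)) W from
    prop_of_isPerfect_affine (srcP G' W) hO (KFlatLib.isPerfect_lpull j _ hP)
  intro n
  letI : (Spec (CommRingCat.of A)).Over (Spec (CommRingCat.of A)) := ⟨𝟙 _⟩
  letI : (Spec (CommRingCat.of A')).Over (Spec (CommRingCat.of A')) := ⟨𝟙 _⟩
  let q : V ⟶ Spec (CommRingCat.of A) := V ↘ Spec (CommRingCat.of A)
  let q' : V' ⟶ Spec (CommRingCat.of A') := V' ↘ Spec (CommRingCat.of A')
  let φ := Spec.map (CommRingCat.ofHom (algebraMap A A'))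
  haveI : q.IsOver (Spec (CommRingCat.of A)) := ⟨Category.comp_id _⟩
  haveI : q'.IsOver (Spec (CommRingCat.of A')) := ⟨Category.comp_id _⟩
  haveI : Flat φ := flat_specMap
  haveI := KFlatLib.hasLpull φ
  haveI := KFlatLib.hasLpull q
  haveI := DCohRestrLib.hasRpush q
  haveI := additive_lpull φ
  have hφ : φ ≫ (Spec (CommRingCat.of A) ↘ Spec (CommRingCat.of A)) =
      (Spec (CommRingCat.of A') ↘ Spec (CommRingCat.of A')) ≫ φ :=
    (Category.comp_id _).trans (Category.id_comp _).symm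
  haveI : IsAffineHom q := inferInstance
  let O := DerivedCategory.Q.obj (PerfDualLib.unitCx (Spec (CommRingCat.of A)))
  let eO : (DCoh.Lpull q).obj O ≅ DCoh.inD V (Coh.structureModule V) :=
    KiehlLib.lpullUnitIso q ≪≫ ((DerivedCategory.singleFunctorIsoCompQ V.Modules 0).app _).symm
  refine bijective_eta_congr G' eO.symm (Iso.refl _)
    ((bijective_eta_rpush (f := q) (f' := q') HV hφ HV.w O (W⟦n⟧) (KFlatLib.isQCohD_shift hW n)).1 ?_)
  have hglob : ∀ (B : Type u) [CommRing B],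
      Function.Bijective (Coh.toGlobal (𝟙 (Spec (CommRingCat.of B)))) := fun B _ => by
    have : (Coh.toGlobal (𝟙 (Spec (CommRingCat.of B))) : B → _) =
        (Scheme.ΓSpecIso (CommRingCat.of B)).inv.hom := by
      funext b
      simp [Coh.toGlobal]
      rfl
    rw [this]
    exact (ConcreteCategory.isIso_iff_bijective (Scheme.ΓSpecIso (CommRingCat.of B)).inv).1 inferInstance
  exact bijective_eta_lpull_unit φ hφ (hglob A) (hglob A')
    ((DerivedCategory.singleFunctorIsoCompQ _ 0).app _).symm _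
    (QRlimLib.isQCohD_rpush q (KFlatLib.isQCohD_shift hW n))

/-- The Mayer–Vietoris step. -/
theorem good_sup [QuasiSeparatedSpace X] (P : DCoh.D X) (U₁ U₂ : X.Opens) (h1 : Good hX P U₁)
    (h2 : Good hX P U₂) (h3 : Good hX P (U₁ ⊓ U₂)) : Good hX P (U₁ ⊔ U₂) := by
  intro V j _ _ hr W hW
  haveI := flat_of_square hX
  have hmem : ∀ U : X.Opens, U ≤ U₁ ⊔ U₂ → ((j ⁻¹ᵁ U).ι ≫ j).opensRange = U := fun U hU => by
    rw [Scheme.Hom.opensRange_comp, Scheme.Opens.opensRange_ι, Scheme.Hom.image_preimage_eq_opensRange_inf,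
      hr, inf_eq_right.2 hU]
  have key : ∀ U : X.Opens, U ≤ U₁ ⊔ U₂ → Good hX P U →
      tgtP (semiLin_lpull g hX.w) P ((DCoh.Rpush j).obj
        ((letI := DCohRestrLib.hasRpush (j ⁻¹ᵁ U).ι
          DCoh.Rpush (j ⁻¹ᵁ U).ι).obj ((DCoh.restrictD (j ⁻¹ᵁ U).ι).obj W))) := fun U hU hG => by
    haveI := DCohRestrLib.hasRpush (j ⁻¹ᵁ U).ι
    haveI := DCohRestrLib.hasRpush ((j ⁻¹ᵁ U).ι ≫ j)
    obtain ⟨c⟩ := Dual3Lib.nonempty_rpush_comp (j ⁻¹ᵁ U).ι j ((DCoh.restrictD (j ⁻¹ᵁ U).ι).obj W)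
    exact (tgtP (semiLin_lpull g hX.w) P).prop_of_iso c.symm
      (hG _ ((j ⁻¹ᵁ U).ι ≫ j) (hmem U hU) _ (KoszOrthLib.isQCohD_restrictD _ hW))
  haveI := DCohRestrLib.hasRpush (j ⁻¹ᵁ U₁).ι
  haveI := DCohRestrLib.hasRpush (j ⁻¹ᵁ U₂).ι
  haveI := DCohRestrLib.hasRpush (j ⁻¹ᵁ U₁ ⊓ j ⁻¹ᵁ U₂).ι
  have hcov : j ⁻¹ᵁ U₁ ⊔ j ⁻¹ᵁ U₂ = ⊤ := by
    rw [← Scheme.Hom.preimage_sup, ← hr, Scheme.Hom.preimage_opensRange]
  obtain ⟨T, hT, ⟨e₁⟩, ⟨e₂⟩, ⟨e₃⟩⟩ := DCohRestrLib.exists_mv_push (j ⁻¹ᵁ U₁) (j ⁻¹ᵁ U₂) hcov W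
  obtain ⟨_, _⟩ := QRlimLib.exists_isTriangulated_rpush j
  let R := DCoh.Rpush j
  have hT' := R.map_distinguished T hT
  let Q := tgtP (semiLin_lpull g hX.w) P
  refine Q.prop_of_iso (R.mapIso e₁) (Q.ext_of_isTriangulatedClosed₁ _ hT' ?_ ?_)
  · haveI : PreservesBinaryBiproducts R := preservesBinaryBiproducts_of_preservesBiproducts _
    refine Q.prop_of_iso (R.mapIso e₂ ≪≫ R.mapBiprod _ _).symm ?_
    exact Q.ext_of_isTriangulatedClosed₂ _ (binaryBiproductTriangle_distinguished _ _)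
      (key U₁ le_sup_left h1) (key U₂ le_sup_right h2)
  · exact Q.prop_of_iso (R.mapIso e₃).symm (key (U₁ ⊓ U₂) (inf_le_left.trans le_sup_left) h3)

/-- `A' ⊗ Hom(P, W) = Hom(g^* P, g^* W)` for perfect `P` and quasi-coherent `W`. -/
theorem bij_perfect [CompactSpace X] [QuasiSeparatedSpace X] (P : DCoh.D X) (hP : DCoh.IsPerfect P)
    (W : DCoh.D X) (hW : DCoh.IsQCohD W) : Bij (semiLin_lpull g hX.w) P W := by
  haveI := DCohRestrLib.hasRpush (𝟙 X)
  have h := Groth.Agent.S0015.result X (Good hX P) (good_affine hX P hP)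
    (fun U V _ _ => good_sup hX P U V) ⊤ CompactSpace.isCompact_univ
  haveI := KFlatLib.hasLpull (𝟙 X)
  obtain ⟨eid⟩ := Dual3Lib.nonempty_lpull_id (𝟙 X) rfl
  let e : DCoh.Rpush (𝟙 X) ≅ 𝟭 _ :=
    (KFlatLib.lpullRpushAdj (𝟙 X)).rightAdjointUniq (Adjunction.id.ofNatIsoLeft eid.symm)
  exact Bij.congr (Iso.refl _) (e.app W) (h X (𝟙 X) (Scheme.Hom.opensRange_of_isIso _) W hW)

end Main

end Groth.Agent.DualFMLib
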