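import Groth.Agent.DualFMLib.FlatHom.Abs
import Groth.Agent.KFlatLib.LpullAdj
import Groth.Agent.KFlatLib.QCohLpull
import Groth.Agent.Dual3Lib.ScalarD
import Groth.Agent.KiehlLib.ExtFin
import Groth.Agent.DerBCLib.Derived

/-!
# Semilinearity of the derived inverse image
-/

set_option autoImplicit false
set_option linter.style.haveILetI false
set_option linter.unusedSectionVars false
set_option backward.isDefEq.respectTransparency false
set_option backward.isDefEq.respectTransparency.types false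
set_option maxHeartbeats 1000000

universe w v u

open CategoryTheory CategoryTheory.Limits AlgebraicGeometry

attribute [local instance] HasDerivedCategory.standard

namespace Groth.Agent.DualFMLib

section Abstract

variable {A : Type w} [CommRing A]
  {C D : Type*} [Category* C] [Category* D] [Preadditive C] [Preadditive D]
  [CategoryTheory.Linear A C] [CategoryTheory.Linear A D] {L : C ⥤ D} {R : D ⥤ C}

/-- A right adjoint of a linear functor is linear. -/
theorem SemiLin.rightAdjoint (adj : L ⊣ R) (hL : SemiLin A A L) : SemiLin A A R := by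
  refine ⟨fun a X => (adj.homEquiv _ _).symm.injective ?_⟩
  rw [Adjunction.homEquiv_counit, Adjunction.homEquiv_counit]
  refine (adj.counit.naturality (a • 𝟙 X)).trans ?_
  rw [hL.map_smul_id, Algebra.algebraMap_self, RingHom.id_apply, Linear.smul_comp, Category.id_comp]
  simp [Linear.comp_smul]

/-- The mate of an identification of right adjoints, computed. -/
theorem exists_mate {C C₀ C' C₀' : Type*} [Category* C] [Category* C₀] [Category* C'] [Category* C₀']
    {G : C ⥤ C'} {Gr : C' ⥤ C} (adjg : G ⊣ Gr) {L : C ⥤ C₀} {R : C₀ ⥤ C} (adj : L ⊣ R)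
    {G₀ : C₀ ⥤ C₀'} {G₀r : C₀' ⥤ C₀} (adjg₀ : G₀ ⊣ G₀r) {L' : C' ⥤ C₀'} {R' : C₀' ⥤ C'}
    (adj' : L' ⊣ R') (e : G₀r ⋙ R ≅ R' ⋙ Gr) :
    ∃ c : G ⋙ L' ≅ L ⋙ G₀, ∀ W : C₀,
      adj'.homEquiv _ _ (c.hom.app (R.obj W) ≫ G₀.map (adj.counit.app W)) =
        (adjg.homEquiv _ _).symm (R.map (adjg₀.unit.app W) ≫ e.hom.app (G₀.obj W)) := by
  let c := Adjunction.leftAdjointUniq (adjg.comp adj') ((adj.comp adjg₀).ofNatIsoRight e)
  refine ⟨c, fun W => ?_⟩
  refine (adjg.homEquiv _ _).injective (Eq.trans ?_ (Equiv.apply_symm_apply _ _).symm)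
  let adj₁ := adjg.comp adj'
  let adj₂ := (adj.comp adjg₀).ofNatIsoRight e
  let z : G₀.obj (L.obj (R.obj W)) ⟶ G₀.obj W := G₀.map (adj.counit.app W)
  have hc : adj₁.homEquiv (R.obj W) _ (c.hom.app (R.obj W) ≫ z) = adj₂.homEquiv (R.obj W) _ z := by
    rw [Adjunction.homEquiv_naturality_right, Adjunction.homEquiv_leftAdjointUniq_hom_app]
    exact (adj₂.homEquiv_unit _ _ z).symm
  have hl : adj₁.homEquiv (R.obj W) _ (c.hom.app (R.obj W) ≫ z) =
      adjg.homEquiv _ _ (adj'.homEquiv _ _ (c.hom.app (R.obj W) ≫ z)) := by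
    simp only [adj₁, Adjunction.comp_homEquiv]
    rfl
  have hr : adj₂.homEquiv (R.obj W) _ z =
      adj.homEquiv _ _ (adjg₀.homEquiv _ _ z) ≫ e.hom.app (G₀.obj W) := by
    have h0 : adj.homEquiv _ _ (adjg₀.homEquiv _ _ z) = (adj.comp adjg₀).homEquiv (R.obj W) _ z := by
      rw [Adjunction.comp_homEquiv]
      rfl
    rw [h0, Adjunction.homEquiv_unit, Adjunction.homEquiv_unit]
    simp only [adj₂, Adjunction.ofNatIsoRight, NatTrans.comp_app, Functor.whiskerLeft_app, Category.assoc]
    exact congrArg ((adj.comp adjg₀).unit.app (R.obj W) ≫ ·) (e.hom.naturality z).symm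
  refine hl.symm.trans (hc.trans (hr.trans ?_))
  have h3 : adjg₀.homEquiv _ _ z = adj.counit.app W ≫ adjg₀.unit.app W := by
    rw [adjg₀.homEquiv_unit]
    exact (adjg₀.unit.naturality (adj.counit.app W)).symm
  rw [h3, adj.homEquiv_naturality_right]
  simp [Adjunction.homEquiv_unit]

end Abstract

section Scheme

variable {A A' : Type u} [CommRing A] [CommRing A'] [Algebra A A'] {X X' : Scheme.{u}}
  [X.Over (Spec (CommRingCat.of A))] [X'.Over (Spec (CommRingCat.of A'))] (g : X' ⟶ X)

theorem toGlobal_compat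
    (hg : g ≫ (X ↘ Spec (CommRingCat.of A)) =
      (X' ↘ Spec (CommRingCat.of A')) ≫ Spec.map (CommRingCat.ofHom (algebraMap A A'))) (a : A) :
    g.appTop (Coh.toGlobal (X ↘ Spec (CommRingCat.of A)) a) =
      Coh.toGlobal (X' ↘ Spec (CommRingCat.of A')) (algebraMap A A' a) := by
  simp only [Coh.toGlobal]
  have h1 := congrArg (fun z => Scheme.Hom.appTop z
    ((Scheme.ΓSpecIso (CommRingCat.of A)).inv.hom a)) hg
  simp only [Scheme.Hom.comp_appTop] at h1
  refine h1.trans ?_
  have h2 := congr($(Scheme.ΓSpecIso_inv_naturality (CommRingCat.ofHom (algebraMap A A'))).hom a)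
  exact congrArg ((X' ↘ Spec (CommRingCat.of A')).appTop) h2.symm

variable (hg : g ≫ (X ↘ Spec (CommRingCat.of A)) =
      (X' ↘ Spec (CommRingCat.of A')) ≫ Spec.map (CommRingCat.ofHom (algebraMap A A')))

include hg

theorem semiLin_pullback : SemiLin A A' (Scheme.Modules.pullback g) := by
  refine ⟨fun a M => ?_⟩
  apply ((Scheme.Modules.pullbackPushforwardAdjunction g).homEquiv _ _).injective
  rw [Adjunction.homEquiv_unit, Adjunction.homEquiv_unit]
  refine ((Scheme.Modules.pullbackPushforwardAdjunction g).unit.naturality (a • 𝟙 M)).symm.trans ?_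
  have hp : (Scheme.Modules.pushforward g).map
      (algebraMap A A' a • 𝟙 ((Scheme.Modules.pullback g).obj M)) =
      Dual3Lib.sMod _ (Coh.toGlobal (X ↘ Spec (CommRingCat.of A)) a) := by
    rw [KLin.smul_id, ← Dual3Lib.sMod_pushforward, toGlobal_compat g hg a]
    rfl
  rw [hp, KLin.smul_id]
  exact Dual3Lib.sMod_natural ((Scheme.Modules.pullbackPushforwardAdjunction g).unit.app M) _

theorem semiLin_lpull [DCoh.HasLpull g] : SemiLin A A' (DCoh.Lpull g) := by
  refine ⟨fun a K => ?_⟩
  obtain ⟨P, hP, ⟨e⟩⟩ := KFlatLib.exists_good_rep K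
  have hP' : (DCoh.Lpull g).map (a • 𝟙 (DerivedCategory.Q.obj P)) =
      algebraMap A A' a • 𝟙 ((DCoh.Lpull g).obj (DerivedCategory.Q.obj P)) := by
    rw [← cancel_mono (KFlatLib.lpullObjIso g P hP.1).hom]
    have h := KFlatLib.leftDerivedObjIso_natural (KFlatLib.preservesKFlatQis_pull g) hP.1 hP.1 (a • 𝟙 P)
    rw [Functor.map_smul, CategoryTheory.Functor.map_id] at h
    refine h.trans ?_
    have hcx : (KFlatLib.pullCx g).map (a • 𝟙 P) = algebraMap A A' a • 𝟙 ((KFlatLib.pullCx g).obj P) := by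
      ext1 n
      exact (semiLin_pullback g hg).map_smul_id a (P.X n)
    rw [hcx, Functor.map_smul, CategoryTheory.Functor.map_id, Linear.comp_smul,
      Linear.smul_comp, Category.id_comp]
    exact congrArg (algebraMap A A' a • ·) (Category.comp_id _)
  have h1 : a • 𝟙 K = e.inv ≫ (a • 𝟙 _) ≫ e.hom := by simp [Linear.smul_comp, Linear.comp_smul]
  rw [h1, Functor.map_comp, Functor.map_comp, hP', Linear.smul_comp, Linear.comp_smul, Category.id_comp,
    ← Functor.map_comp, e.inv_hom_id, CategoryTheory.Functor.map_id]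

end Scheme

/-- Derived inverse images over one base are linear. -/
theorem semiLin_lpull_self {A : Type u} [CommRing A] {X Y : Scheme.{u}}
    [X.Over (Spec (CommRingCat.of A))] [Y.Over (Spec (CommRingCat.of A))] (f : X ⟶ Y)
    [f.IsOver (Spec (CommRingCat.of A))] [DCoh.HasLpull f] : SemiLin A A (DCoh.Lpull f) :=
  semiLin_lpull f (by rw [comp_over]; simp)

/-- Derived direct images over one base are linear. -/
theorem semiLin_rpush_self {A : Type u} [CommRing A] {X Y : Scheme.{u}}
    [X.Over (Spec (CommRingCat.of A))] [Y.Over (Spec (CommRingCat.of A))] (f : X ⟶ Y)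
    [f.IsOver (Spec (CommRingCat.of A))] [DCoh.HasRpush f] : SemiLin A A (DCoh.Rpush f) := by
  haveI := KFlatLib.hasLpull f
  exact (semiLin_lpull_self f).rightAdjoint (KFlatLib.lpullRpushAdj f)

theorem additive_lpull {X Y : Scheme.{u}} (f : X ⟶ Y) [DCoh.HasLpull f] : (DCoh.Lpull f).Additive := by
  haveI := DCohRestrLib.hasRpush f
  obtain ⟨_, _⟩ := QRlimLib.exists_isTriangulated_rpush f
  exact (KFlatLib.lpullRpushAdj f).left_adjoint_additive

theorem exists_isTriangulated_lpull {X Y : Scheme.{u}} (f : X ⟶ Y) [DCoh.HasLpull f] :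
    ∃ _ : (DCoh.Lpull f).CommShift ℤ, (DCoh.Lpull f).IsTriangulated := by
  haveI := DCohRestrLib.hasRpush f
  obtain ⟨_, _⟩ := QRlimLib.exists_isTriangulated_rpush f
  let adj := KFlatLib.lpullRpushAdj f
  letI := adj.leftAdjointCommShift ℤ
  haveI : adj.CommShift ℤ := adj.commShift_of_rightAdjoint ℤ
  exact ⟨inferInstance, adj.isTriangulated_leftAdjoint⟩

end Groth.Agent.DualFMLib
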