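import Groth.Agent.DualFMLib.FlatHom.Core

/-!
# `ξ` is an isomorphism for a flat square
-/

set_option autoImplicit false
set_option linter.style.haveILetI false
set_option linter.unusedSectionVars false
set_option backward.isDefEq.respectTransparency false
set_option backward.isDefEq.respectTransparency.types false

universe w u

open CategoryTheory CategoryTheory.Limits AlgebraicGeometry

attribute [local instance] HasDerivedCategory.standard

namespace Groth.Agent.DualFMLib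

variable {CX CY CX' CY' : Type*} [Category* CX] [Category* CY] [Category* CX'] [Category* CY']
  {F : CX ⥤ CY} {a : CY ⥤ CX} {F' : CX' ⥤ CY'} {a' : CY' ⥤ CX'} {G : CY ⥤ CY'} {Gr : CY' ⥤ CY}
  {G' : CX ⥤ CX'} {Gr' : CX' ⥤ CX}

/-- `ξ` is invertible when all base change maps of direct images are. -/
theorem isIso_xi (adj : F ⊣ a) (adj' : F' ⊣ a') (e : Gr' ⋙ F ≅ F' ⋙ Gr) (adjg : G ⊣ Gr)
    (adjg' : G' ⊣ Gr') (M : CY')
    (hβ : ∀ T : CX, IsIso ((adjg.homEquiv _ _).symm (F.map (adjg'.unit.app T) ≫ e.hom.app (G'.obj T))))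
    (ξ : Gr'.obj (a'.obj M) ⟶ a.obj (Gr.obj M))
    (hξ : ξ = adj.homEquiv _ _ (e.hom.app _ ≫ Gr.map (adj'.counit.app _))) : IsIso ξ := by
  have hξ' : (adj.homEquiv _ _).symm ξ = e.hom.app _ ≫ Gr.map (adj'.counit.app M) := by
    rw [hξ]
    exact Equiv.symm_apply_apply _ _
  have hb : ∀ T : CX, Function.Bijective fun u : T ⟶ Gr'.obj (a'.obj M) => u ≫ ξ := fun T => by
    haveI : IsIso ((adjg.homEquiv (F.obj T) (F'.obj (G'.obj T))).symm
        (F.map (adjg'.unit.app T) ≫ e.hom.app (G'.obj T))) := hβ T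
    let β : G.obj (F.obj T) ⟶ F'.obj (G'.obj T) :=
      (adjg.homEquiv _ _).symm (F.map (adjg'.unit.app T) ≫ e.hom.app (G'.obj T))
    let E := ((((adjg'.homEquiv _ _).symm.trans (adj'.homEquiv _ _).symm).trans
      ((@asIso _ _ _ _ β ‹_›).symm.homFromEquiv)).trans (adjg.homEquiv (F.obj T) M)).trans (adj.homEquiv T (Gr.obj M))
    have h : (fun u : T ⟶ Gr'.obj (a'.obj M) => u ≫ ξ) = E := by
      funext u
      obtain ⟨v, rfl⟩ := (adjg'.homEquiv _ _).surjective u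
      apply (adj.homEquiv _ _).symm.injective
      simp only [E, Equiv.trans_apply, Equiv.symm_apply_apply]
      rw [Adjunction.homEquiv_naturality_left_symm, hξ', Iso.homFromEquiv_apply, Iso.symm_inv, asIso_hom,
        adjg.homEquiv_naturality_right β, Equiv.apply_symm_apply, adjg'.homEquiv_unit,
        Functor.map_comp, Category.assoc, adj'.homEquiv_counit, Functor.map_comp, Category.assoc]
      have h2 := e.hom.naturality v
      simp only [Functor.comp_map] at h2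
      rw [reassoc_of% h2]
    exact h ▸ E.bijective
  obtain ⟨s, hs⟩ := (hb (a.obj (Gr.obj M))).2 (𝟙 _)
  refine ⟨s, (hb _).1 ?_, hs⟩
  show (ξ ≫ s) ≫ _ = 𝟙 _ ≫ _
  rw [Category.assoc, show s ≫ ξ = 𝟙 _ from hs, Category.comp_id, Category.id_comp]

/-- `ξ` is invertible for a flat square. -/
theorem isIso_xi_sqQ {X Y X' Y' : Scheme.{u}} {f : X ⟶ Y} {g : Y' ⟶ Y} {f' : X' ⟶ Y'} {g' : X' ⟶ X}
    [DCoh.HasRpush f] [DCoh.HasRpush f'] [DCoh.HasRpush g] [DCoh.HasRpush g'] [DCoh.HasLpull g]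
    [DCoh.HasLpull g'] {hf : DCoh.RpushPreservesQCoh f} {hf' : DCoh.RpushPreservesQCoh f'}
    {hg : DCoh.RpushPreservesQCoh g} {hg' : DCoh.RpushPreservesQCoh g'}
    {hLg : Dual3.LpullPreservesQCoh g} {hLg' : Dual3.LpullPreservesQCoh g'}
    {a : DCoh.DQCoh Y ⥤ DCoh.DQCoh X} {a' : DCoh.DQCoh Y' ⥤ DCoh.DQCoh X'}
    [QuasiCompact f] [QuasiSeparated f] [Flat g] (hsq : IsPullback g' f' f g)
    (adj : DCoh.RpushQ f hf ⊣ a) (adj' : DCoh.RpushQ f' hf' ⊣ a')
    (adjg : Dual3.LpullQ g hLg ⊣ DCoh.RpushQ g hg) (adjg' : Dual3.LpullQ g' hLg' ⊣ DCoh.RpushQ g' hg')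
    (M : DCoh.DQCoh Y') : IsIso (Dual3.xi adj adj' (sqQ hsq.w hf hf' hg hg') M) :=
  isIso_xi adj adj' (sqQ hsq.w hf hf' hg hg') adjg adjg' M (fun T => isIso_bcPush adjg adjg' hsq T) _ rfl

end Groth.Agent.DualFMLib
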